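import Groth.Agent.BigSite.K299.EtRes
import Groth.Agent.Etbase.ZarEt530
import Groth.Agent.Etrest.BigEtDescent

/-!
# Restriction from the big Zariski site to the small Zariski site

* `instCocont` : `BigSite.zarIncl S` is cocontinuous for the Zariski topologies;
* `nonempty_H_resZar`.
-/

set_option autoImplicit false
universe u

open CategoryTheory CategoryTheory.Limits Opposite AlgebraicGeometry TopologicalSpace

noncomputable section

namespace K186.ZarRes

/-- The Zariski precoverage. -/
abbrev KZ : Precoverage Scheme.{u} := Scheme.zariskiPrecoverage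

variable (S : Scheme.{u})

instance flat : RepresentablyFlat (BigSite.zarIncl S) :=
  inferInstanceAs (RepresentablyFlat (EtZar.zarToEt S ⋙ EtFppf.a S))

theorem preservesFiniteLimits_piZarPull (K : Precoverage Scheme.{u}) [BigSite.ZarCont K S] :
    PreservesFiniteLimits (BigSite.piZarPull K S) :=
  Groth.Agent.Etbase.ZarEt530.preservesFiniteLimits_sheafPullback (BigSite.zarIncl S) _ _

theorem injective_resZar (K : Precoverage Scheme.{u}) [BigSite.ZarCont K S] (I : BigSite.Ab K S)
    (hI : Injective I) : Injective ((BigSite.resZar K S).obj I) := by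
  have := preservesFiniteLimits_piZarPull S K
  exact Injective.injective_of_adjoint (BigSite.piZarAdj K S) I

theorem mem_JZ_iff {S : Scheme.{u}} {T : Over S} {R : Sieve T} :
    R ∈ QuotSh.J KZ S T ↔ ∀ x : T.left, ∃ (Y : Over S) (g : Y ⟶ T), R g ∧ IsOpenImmersion g.left ∧
      x ∈ Set.range g.left :=
  Groth.Agent.Etrest.BigEtSite.mem_over_grothendieckTopology_iff (P := @IsOpenImmersion)

instance instCocont : (BigSite.zarIncl S).IsCocontinuous (Opens.grothendieckTopology S)
    (QuotSh.J KZ S) where
  cover_lift {U R} hR := by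
    intro x hx
    rw [mem_JZ_iff] at hR
    obtain ⟨Y, g, hg, hgi, y, hy⟩ := hR ⟨x, hx⟩
    let gl : Y.left ⟶ U.toScheme := g.left
    have hgi' : IsOpenImmersion gl := hgi
    have w : gl ≫ U.ι = Y.hom := Over.w g
    have hYi : IsOpenImmersion Y.hom := by
      rw [← w]
      infer_instance
    let V : S.Opens := Y.hom.opensRange
    have hV : V ≤ U := by
      rintro _ ⟨z, rfl⟩
      rw [← w]
      exact (gl z).2
    have hr : Set.range V.ι ⊆ Set.range Y.hom := by
      rw [Scheme.Opens.range_ι]
      rfl
    let l : V.toScheme ⟶ Y.left := IsOpenImmersion.lift Y.hom V.ι hr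
    have hl : l ≫ Y.hom = V.ι := IsOpenImmersion.lift_fac _ _ _
    refine ⟨V, homOfLE hV, ?_, ?_⟩
    · change R ((BigSite.zarIncl S).map (homOfLE hV))
      have h1 := R.downward_closed hg (Over.homMk l hl : (BigSite.zarIncl S).obj V ⟶ Y)
      convert h1 using 1
      ext1
      change S.homOfLE hV = l ≫ gl
      rw [← cancel_mono U.ι, Scheme.homOfLE_ι, Category.assoc, w, hl]
    · refine ⟨y, ?_⟩
      rw [← w]
      have h2 : (gl ≫ U.ι) y = U.ι (gl y) := Scheme.Hom.comp_apply _ _ _
      rw [h2]
      exact congrArg U.ι hy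

instance preservesColimits_resZar [BigSite.ZarCont KZ S] :
    PreservesFiniteColimits (BigSite.resZar KZ S) := by
  have : PreservesColimitsOfSize.{0, 0} (BigSite.resZar KZ S) :=
    ((BigSite.zarIncl S).sheafAdjunctionCocontinuous AddCommGrpCat.{u + 1}
      (Opens.grothendieckTopology S) (QuotSh.J KZ S)).leftAdjoint_preservesColimits
  exact PreservesColimitsOfSize.preservesFiniteColimits _

instance preservesLimits_resZar (K : Precoverage Scheme.{u}) [BigSite.ZarCont K S] :
    PreservesFiniteLimits (BigSite.resZar K S) := by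
  have : PreservesLimitsOfSize.{0, 0} (BigSite.resZar K S) :=
    (BigSite.piZarAdj K S).rightAdjoint_preservesLimits
  exact PreservesLimitsOfSize.preservesFiniteLimits _

/-- The whole space is terminal in the big site. -/
def isTerminalTop : IsTerminal ((BigSite.zarIncl S).obj ⊤) :=
  IsTerminal.isTerminalObj (EtFppf.a S) _ (Groth.Agent.Etbase.ZarEt530.zarTop S)

/-- `π⁻¹` of a constant sheaf. -/
def constIso (K : Precoverage Scheme.{u}) [BigSite.ZarCont K S] (M : AddCommGrpCat.{u + 1}) :
    (BigSite.piZarPull K S).obj ((constantSheaf (Opens.grothendieckTopology S) AddCommGrpCat.{u + 1}).obj M) ≅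
      (constantSheaf (QuotSh.J K S) AddCommGrpCat.{u + 1}).obj M :=
  (Adjunction.leftAdjointUniq
    ((constantSheafAdj (Opens.grothendieckTopology S) AddCommGrpCat.{u + 1}
      (T := (⊤ : S.Opens)) CategoryTheory.Limits.isTerminalTop).comp (BigSite.piZarAdj K S))
    (constantSheafAdj (QuotSh.J K S) AddCommGrpCat.{u + 1} (isTerminalTop S))).app M

/-- `H^p(S_Zar, F|) ≃ H^p(big Zar, F)`. -/
theorem nonempty_H_resZar [BigSite.ZarCont KZ S] (F : BigSite.Ab KZ S) (p : ℕ) :
    Nonempty (EtZar.H ((BigSite.resZar KZ S).obj F) p ≃+ BigSite.H KZ S F p) :=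
  K299.EtRes.nonempty_ext_comparison (BigSite.piZarAdj KZ S) (fun I _ => injective_resZar S KZ I ‹_›) _ _
    (constIso S KZ (AddCommGrpCat.of (ULift ℤ))) F p

end K186.ZarRes
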