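import Groth.Agent.Etbase.FFExact
import Mathlib.RingTheory.Flat.IsBaseChange
import Mathlib.RingTheory.TensorProduct.IsBaseChangeRightExact
import Mathlib.RingTheory.TensorProduct.IsBaseChangePi
import Mathlib.RingTheory.RingHom.Flat
import Mathlib.Algebra.Module.Torsion.Basic

/-!
# Base change maps of modules along ring homomorphisms and jointly faithfully flat families

`IsBC φ f` (`Groth.Agent.Etbase.FFExact.IsBC`): `f : M →+ M'` is `φ`-semilinear and exhibits `M'` as `B ⊗_A M`
(universe polymorphic).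

* `comp`, `of_comp`, `exists_lift`, `hom_ext`, `bijective_of_comm`, `of_bijective`, `pi`, `left_exact`, `of_pushout`;
* `zero_test` : an element killed by all members of a jointly faithfully flat family is zero;
* `exact_fam` : descent of membership in the image; `inj_fam`;
* `glue` : gluing elements along a jointly faithfully flat family.
-/

set_option autoImplicit false
set_option linter.style.haveILetI false

open TensorProduct Groth.Agent.Etbase.FFExact

namespace K186.BCAlg

universe w

section Basic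

variable {A B C : Type*} [CommRing A] [CommRing B] [CommRing C]
  {M N P Q : Type*} [AddCommGroup M] [AddCommGroup N] [AddCommGroup P] [AddCommGroup Q]

/-- scalar tower attached to `Module.compHom`. -/
theorem tower (φ : A →+* B) [Module B M] :
    letI : Algebra A B := φ.toAlgebra
    letI : Module A M := Module.compHom M φ
    IsScalarTower A B M :=
  letI : Algebra A B := φ.toAlgebra
  letI : Module A M := Module.compHom M φ
  ⟨fun a b m => by
    change (φ a * b) • m = φ a • b • m
    rw [mul_smul]⟩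

theorem exists_equiv {φ : A →+* B} [Module A M] [Module B N] {f : M →+ N} (hf : IsBC φ f) :
    letI : Algebra A B := φ.toAlgebra
    ∃ e : B ⊗[A] M ≃ₗ[B] N, ∀ (b : B) (m : M), e (b ⊗ₜ[A] m) = b • f m := by
  obtain ⟨h1, h2⟩ := hf
  letI : Algebra A B := φ.toAlgebra
  letI : Module A N := Module.compHom N φ
  haveI : IsScalarTower A B N := tower φ
  exact ⟨h2.equiv, fun b m => h2.equiv_tmul b m⟩

theorem of_equiv {φ : A →+* B} [Module A M] [Module B N] (f : M →+ N) :
    letI : Algebra A B := φ.toAlgebra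
    ∀ (e : B ⊗[A] M ≃ₗ[B] N) (_ : ∀ m : M, e ((1 : B) ⊗ₜ[A] m) = f m), IsBC φ f := by
  letI : Algebra A B := φ.toAlgebra
  letI : Module A N := Module.compHom N φ
  haveI : IsScalarTower A B N := tower φ
  intro e he
  have h1 : ∀ (a : A) (m : M), f (a • m) = φ a • f m := by
    intro a m
    have h3 : (1 : B) ⊗ₜ[A] (a • m) = (φ a) • ((1 : B) ⊗ₜ[A] m) := by
      rw [tmul_smul, smul_tmul', smul_tmul']
      congr 1
    rw [← he, ← he, h3, map_smul]
  exact ⟨h1, IsBaseChange.of_equiv e he⟩

theorem comp {φ : A →+* B} {ψ : B →+* C} [Module A M] [Module B N] [Module C P] {f : M →+ N} {g : N →+ P}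
    (hf : IsBC φ f) (hg : IsBC ψ g) : IsBC (ψ.comp φ) (g.comp f) := by
  letI : Algebra A B := φ.toAlgebra
  letI : Algebra B C := ψ.toAlgebra
  letI : Algebra A C := (ψ.comp φ).toAlgebra
  haveI : IsScalarTower A B C := IsScalarTower.of_algebraMap_eq' rfl
  obtain ⟨e1, he1⟩ := exists_equiv hf
  obtain ⟨e2, he2⟩ := exists_equiv hg
  refine of_equiv (g.comp f) (((TensorProduct.AlgebraTensorModule.cancelBaseChange A B C C M).symm.trans
    (e1.baseChange B C _ _)).trans e2) ?_
  intro m
  change e2 ((e1.baseChange B C _ _) ((TensorProduct.AlgebraTensorModule.cancelBaseChange A B C C M).symm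
    ((1 : C) ⊗ₜ[A] m))) = g (f m)
  rw [TensorProduct.AlgebraTensorModule.cancelBaseChange_symm_tmul, LinearEquiv.baseChange_tmul, he1, he2,
    one_smul, one_smul]

theorem of_comp {φ : A →+* B} {ψ : B →+* C} [Module A M] [Module B N] [Module C P] {f : M →+ N} {g : N →+ P}
    (hf : IsBC φ f) (hg : ∀ (b : B) (n : N), g (b • n) = ψ b • g n) (h : IsBC (ψ.comp φ) (g.comp f)) :
    IsBC ψ g := by
  obtain ⟨h1, h2⟩ := hf
  obtain ⟨h3, h4⟩ := h
  refine ⟨hg, ?_⟩
  letI : Algebra A B := φ.toAlgebra
  letI : Algebra B C := ψ.toAlgebra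
  letI : Algebra A C := (ψ.comp φ).toAlgebra
  haveI : IsScalarTower A B C := IsScalarTower.of_algebraMap_eq' rfl
  letI : Module A N := Module.compHom N φ
  letI : Module B P := Module.compHom P ψ
  letI : Module A P := Module.compHom P (ψ.comp φ)
  haveI : IsScalarTower A B N := tower φ
  haveI : IsScalarTower B C P := tower ψ
  haveI : IsScalarTower A C P := tower (ψ.comp φ)
  haveI : IsScalarTower A B P := ⟨fun a b m => by
    change ψ (φ a * b) • m = ψ (φ a) • ψ b • m
    rw [map_mul, mul_smul]⟩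
  exact IsBaseChange.of_comp h2 h4

/-- Universal property. -/
theorem exists_lift {φ : A →+* B} {ψ : B →+* C} [Module A M] [Module B N] [Module C Q] {f : M →+ N}
    (hf : IsBC φ f) (g : M →+ Q) (hg : ∀ (a : A) (m : M), g (a • m) = ψ (φ a) • g m) :
    ∃ h : N →+ Q, (∀ (b : B) (n : N), h (b • n) = ψ b • h n) ∧ ∀ m, h (f m) = g m := by
  obtain ⟨h1, h2⟩ := hf
  letI : Algebra A B := φ.toAlgebra
  letI : Module A N := Module.compHom N φ
  letI : Module B Q := Module.compHom Q ψ
  letI : Module A Q := Module.compHom Q (ψ.comp φ)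
  haveI : IsScalarTower A B N := tower φ
  haveI : IsScalarTower A B Q := ⟨fun a b m => by
    change ψ (φ a * b) • m = ψ (φ a) • ψ b • m
    rw [map_mul, mul_smul]⟩
  let g' : M →ₗ[A] Q := { toFun := g, map_add' := g.map_add, map_smul' := hg }
  refine ⟨(h2.lift g').toAddMonoidHom, fun b n => (h2.lift g').map_smul b n, fun m => ?_⟩
  exact h2.lift_eq g' m

theorem hom_ext {φ : A →+* B} {ψ : B →+* C} [Module A M] [Module B N] [Module C Q] {f : M →+ N}
    (hf : IsBC φ f) {h h' : N →+ Q} (hh : ∀ (b : B) (n : N), h (b • n) = ψ b • h n)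
    (hh' : ∀ (b : B) (n : N), h' (b • n) = ψ b • h' n) (e : ∀ m, h (f m) = h' (f m)) : h = h' := by
  obtain ⟨h1, h2⟩ := hf
  letI : Algebra A B := φ.toAlgebra
  letI : Module A N := Module.compHom N φ
  letI : Module B Q := Module.compHom Q ψ
  haveI : IsScalarTower A B N := tower φ
  let k : N →ₗ[B] Q := { toFun := h, map_add' := h.map_add, map_smul' := hh }
  let k' : N →ₗ[B] Q := { toFun := h', map_add' := h'.map_add, map_smul' := hh' }
  have key : k = k' := h2.algHom_ext _ _ e
  ext n
  exact LinearMap.congr_fun key n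

/-- Elements of the base change are linear combinations. -/
theorem mem_span {φ : A →+* B} [Module A M] [Module B N] {f : M →+ N} (hf : IsBC φ f) (n : N) :
    n ∈ Submodule.span B (Set.range f) := by
  obtain ⟨h1, h2⟩ := hf
  letI : Algebra A B := φ.toAlgebra
  letI : Module A N := Module.compHom N φ
  haveI : IsScalarTower A B N := tower φ
  refine h2.inductionOn n (fun n => n ∈ Submodule.span B (Set.range f)) (Submodule.zero_mem _)
    (fun m => Submodule.subset_span ⟨m, rfl⟩) (fun b m hm => Submodule.smul_mem _ _ hm)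
    (fun a b ha hb => Submodule.add_mem _ ha hb)

/-- Two base changes are related by bijective linear maps. -/
theorem bijective_of_comm {φ : A →+* B} [Module A M] [Module B N] [Module B P] {f : M →+ N} {g : M →+ P}
    (hf : IsBC φ f) (hg : IsBC φ g) (h : N →ₗ[B] P) (e : ∀ m, h (f m) = g m) : Function.Bijective h := by
  letI : Algebra A B := φ.toAlgebra
  obtain ⟨e1, he1⟩ := exists_equiv hf
  obtain ⟨e2, he2⟩ := exists_equiv hg
  have key : ∀ n, h n = e2 (e1.symm n) := by
    intro n
    obtain ⟨x, rfl⟩ := e1.surjective n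
    rw [LinearEquiv.symm_apply_apply]
    induction x using TensorProduct.induction_on with
    | zero => simp
    | tmul b m => rw [he1, he2, map_smul, e]
    | add x y hx hy => rw [map_add, map_add, map_add, hx, hy]
  have : (h : N → P) = (e1.symm.trans e2 : N ≃ₗ[B] P) := funext key
  rw [this]
  exact (e1.symm.trans e2 : N ≃ₗ[B] P).bijective

theorem of_bijective {φ : A →+* B} [Module A M] [Module B N] [Module B P] {f : M →+ N} {g : M →+ P}
    (hf : IsBC φ f) (h : N →ₗ[B] P) (hh : Function.Bijective h) (e : ∀ m, h (f m) = g m) : IsBC φ g := by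
  letI : Algebra A B := φ.toAlgebra
  obtain ⟨e1, he1⟩ := exists_equiv hf
  refine of_equiv g (e1.trans (LinearEquiv.ofBijective h hh)) ?_
  intro m
  change h (e1 (1 ⊗ₜ[A] m)) = g m
  rw [he1, one_smul, e]

theorem of_surj_inj {φ : A →+* B} [Module A M] [Module B N] (f : M →+ N)
    {P : Type*} [AddCommGroup P] [Module B P]
    {g : M →+ P} (hg : IsBC φ g) (h : P →ₗ[B] N) (e : ∀ m, h (g m) = f m)
    (hi : ∀ x, h x = 0 → x = 0) (hs : ∀ y, ∃ x, h x = y) : IsBC φ f :=
  of_bijective hg h ⟨(injective_iff_map_eq_zero h).2 hi, hs⟩ e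

theorem id_isBC [Module A M] : IsBC (RingHom.id A) (AddMonoidHom.id M) := by
  refine of_equiv _ ?_ ?_
  · exact TensorProduct.lid A M
  · intro m
    exact (TensorProduct.lid_tmul _ _).trans (one_smul _ _)

/-- The tensor product. -/
theorem exists_isBC (φ : A →+* B) (M : Type*) [AddCommGroup M] [Module A M] :
    letI : Algebra A B := φ.toAlgebra
    IsBC φ ((TensorProduct.mk A B M 1).toAddMonoidHom : M →+ B ⊗[A] M) := by
  letI : Algebra A B := φ.toAlgebra
  exact of_equiv _ (LinearEquiv.refl _ _) (fun m => rfl)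

end Basic

section Pi

variable {A B : Type*} [CommRing A] [CommRing B]

theorem pi {φ : A →+* B} {ι : Type*} [Finite ι] {M N : ι → Type*} [∀ i, AddCommGroup (M i)]
    [∀ i, AddCommGroup (N i)] [∀ i, Module A (M i)] [∀ i, Module B (N i)] (f : ∀ i, M i →+ N i)
    (hf : ∀ i, IsBC φ (f i)) :
    IsBC φ ({ toFun := fun x i => f i (x i)
              map_zero' := funext fun i => map_zero _
              map_add' := fun x y => funext fun i => map_add _ _ _ } : (∀ i, M i) →+ (∀ i, N i)) := by
  classical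
  cases nonempty_fintype ι
  letI : Algebra A B := φ.toAlgebra
  choose e he using fun i => exists_equiv (hf i)
  refine of_equiv _ ((TensorProduct.piRight A B B M).trans (LinearEquiv.piCongrRight e)) ?_
  intro m
  funext i
  change e i (TensorProduct.piRight A B B M ((1 : B) ⊗ₜ[A] m) i) = f i (m i)
  rw [TensorProduct.piRight_apply, TensorProduct.piRightHom_tmul, he, one_smul]

theorem left_exact {φ : A →+* B} (hφ : φ.Flat) {M₁ M₂ M₃ N₁ N₂ N₃ : Type*} [AddCommGroup M₁]
    [AddCommGroup M₂] [AddCommGroup M₃] [AddCommGroup N₁] [AddCommGroup N₂] [AddCommGroup N₃]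
    [Module A M₁] [Module A M₂] [Module A M₃] [Module B N₁] [Module B N₂] [Module B N₃]
    {f₂ : M₂ →+ N₂} {f₃ : M₃ →+ N₃} (h₂ : IsBC φ f₂)
    (h₃ : IsBC φ f₃) (i : M₁ →ₗ[A] M₂) (g : M₂ →ₗ[A] M₃) (hi : Function.Injective i)
    (hex : Function.Exact i g) (i' : N₁ →ₗ[B] N₂) (g' : N₂ →ₗ[B] N₃)
    (hi' : Function.Injective i') (hex' : Function.Exact i' g') (f₁ : M₁ →+ N₁)
    (c₁ : ∀ x, f₂ (i x) = i' (f₁ x)) (c₂ : ∀ x, f₃ (g x) = g' (f₂ x)) : IsBC φ f₁ := by
  obtain ⟨s₂, b₂⟩ := h₂
  obtain ⟨s₃, b₃⟩ := h₃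
  have s₁ : ∀ (a : A) m, f₁ (a • m) = φ a • f₁ m := by
    intro a m
    apply hi'
    rw [← c₁, i.map_smul, s₂, c₁, i'.map_smul]
  refine ⟨s₁, ?_⟩
  letI : Algebra A B := φ.toAlgebra
  haveI : Module.Flat A B := hφ
  letI : Module A N₁ := Module.compHom N₁ φ
  letI : Module A N₂ := Module.compHom N₂ φ
  letI : Module A N₃ := Module.compHom N₃ φ
  haveI : IsScalarTower A B N₁ := tower φ
  haveI : IsScalarTower A B N₂ := tower φ
  haveI : IsScalarTower A B N₃ := tower φ
  exact IsBaseChange.of_left_exact B _ _ _ (LinearMap.ext fun x => c₁ x) (LinearMap.ext fun x => c₂ x)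
    b₂ b₃ hex hi hex' hi'

end Pi

section Pushout

open CategoryTheory

section Push

variable {A A' B B' : Type*} [CommRing A] [CommRing A'] [CommRing B] [CommRing B']

/-- A pushout square of commutative rings (universe polymorphic): `φ' : A' → B'` is the base change of `A'` along
`φ : A → B`. -/
def Push (α : A →+* A') (φ : A →+* B) (φ' : A' →+* B') (β : B →+* B') : Prop :=
  letI : Module A A' := Module.compHom A' α
  letI : Module B B' := Module.compHom B' β
  IsBC φ φ'.toAddMonoidHom

theorem Push.comm {α : A →+* A'} {φ : A →+* B} {φ' : A' →+* B'} {β : B →+* B'} (h : Push α φ φ' β) :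
    φ'.comp α = β.comp φ := by
  ext a
  have h1 : φ' (α a * 1) = β (φ a) * φ' 1 := h.1 a 1
  rw [mul_one, map_one, mul_one] at h1
  exact h1

theorem Push.isBC {α : A →+* A'} {φ : A →+* B} {φ' : A' →+* B'} {β : B →+* B'} (h : Push α φ φ' β)
    {M M' : Type*} [AddCommGroup M] [AddCommGroup M'] [Module A' M] [Module B' M'] {ψ : M →+ M'}
    [Module A M] [Module B M'] (hM : ∀ (a : A) (m : M), a • m = α a • m)
    (hM' : ∀ (b : B) (m : M'), b • m = β b • m) (hψ : IsBC φ' ψ) : IsBC φ ψ := by
  refine IsBC.of_isPushout α φ φ' β h.comm ?_ ψ hM hM' hψ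
  letI := α.toAlgebra
  letI := φ.toAlgebra
  letI := φ'.toAlgebra
  letI := β.toAlgebra
  letI := (φ'.comp α).toAlgebra
  haveI : IsScalarTower A A' B' := IsScalarTower.of_algebraMap_eq' rfl
  haveI : IsScalarTower A B B' := IsScalarTower.of_algebraMap_eq' h.comm
  obtain ⟨h1, h2⟩ := h
  exact ⟨h2⟩

end Push

variable {A A' B B' : Type w} [CommRing A] [CommRing A'] [CommRing B] [CommRing B']

/-- Base change in a pushout square of rings. -/
theorem of_pushout {α : A →+* A'} {φ : A →+* B} {φ' : A' →+* B'} {β : B →+* B'}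
    (hp : IsPushout (CommRingCat.ofHom α) (CommRingCat.ofHom φ) (CommRingCat.ofHom φ') (CommRingCat.ofHom β))
    {M M' : Type*} [AddCommGroup M] [AddCommGroup M'] [Module A' M] [Module B' M'] {ψ : M →+ M'}
    [Module A M] [Module B M'] (hM : ∀ (a : A) (m : M), a • m = α a • m)
    (hM' : ∀ (b : B) (m : M'), b • m = β b • m) (h : IsBC φ' ψ) : IsBC φ ψ := by
  have comm : φ'.comp α = β.comp φ := by
    have h1 := hp.w
    rw [← CommRingCat.ofHom_comp, ← CommRingCat.ofHom_comp] at h1
    exact congrArg CommRingCat.Hom.hom h1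
  refine IsBC.of_isPushout α φ φ' β comm ?_ ψ hM hM' h
  letI := α.toAlgebra
  letI := φ.toAlgebra
  letI := φ'.toAlgebra
  letI := β.toAlgebra
  letI := (φ'.comp α).toAlgebra
  haveI : IsScalarTower A A' B' := IsScalarTower.of_algebraMap_eq' rfl
  haveI : IsScalarTower A B B' := IsScalarTower.of_algebraMap_eq' comm
  exact (CommRingCat.isPushout_iff_isPushout (R := A) (R' := B) (S := A') (S' := B')).1 hp.flip

theorem push_of_isPushout {α : A →+* A'} {φ : A →+* B} {φ' : A' →+* B'} {β : B →+* B'}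
    (hp : IsPushout (CommRingCat.ofHom α) (CommRingCat.ofHom φ) (CommRingCat.ofHom φ') (CommRingCat.ofHom β)) :
    Push α φ φ' β := by
  letI : Module A A' := Module.compHom A' α
  letI : Module B B' := Module.compHom B' β
  unfold Push
  refine of_pushout (M := A') (M' := B') hp (fun a m => rfl) (fun b m => rfl) ?_
  refine of_equiv (φ := φ') _ ?_ ?_
  · letI := φ'.toAlgebra
    exact (TensorProduct.AlgebraTensorModule.rid A' B' B')
  · intro m
    letI := φ'.toAlgebra
    have h1 : (TensorProduct.AlgebraTensorModule.rid A' B' B') ((1 : B') ⊗ₜ[A'] m) = m • (1 : B') := by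
      simp
    rw [h1, Algebra.smul_def, mul_one]
    rfl

end Pushout

section RingEquiv

variable {A B : Type*} [CommRing A] [CommRing B]

/-- Restriction along a ring isomorphism. -/
theorem isBC_of_bijective {e : A →+* B} (he : Function.Bijective e) {M N : Type*} [AddCommGroup M] [AddCommGroup N]
    [Module A M] [Module B N] (f : M →+ N) (hf : Function.Bijective f)
    (hM : ∀ (a : A) (m : M), f (a • m) = e a • f m) : IsBC e f := by
  letI := e.toAlgebra
  letI : Module A N := Module.compHom N e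
  haveI : IsScalarTower A B N := tower e
  let f' : M →ₗ[A] N := { toFun := f, map_add' := f.map_add, map_smul' := hM }
  let l : B ⊗[A] M →ₗ[B] N := TensorProduct.AlgebraTensorModule.lift
    ((LinearMap.lsmul B (M →ₗ[A] N)).flip f')
  have hl : ∀ (b : B) (m : M), l (b ⊗ₜ[A] m) = b • f m := fun b m => rfl
  let g : N → B ⊗[A] M := fun n => (1 : B) ⊗ₜ[A] (Equiv.ofBijective f hf).symm n
  have hg : ∀ m, g (f m) = (1 : B) ⊗ₜ[A] m := by
    intro m
    change (1 : B) ⊗ₜ[A] (Equiv.ofBijective f hf).symm (f m) = _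
    rw [Equiv.ofBijective_symm_apply_apply]
  have hga : ∀ x y, g (x + y) = g x + g y := by
    intro x y
    obtain ⟨x, rfl⟩ := hf.2 x
    obtain ⟨y, rfl⟩ := hf.2 y
    rw [← map_add, hg, hg, hg, tmul_add]
  have hl1 : ∀ x : B ⊗[A] M, g (l x) = x := by
    intro x
    induction x using TensorProduct.induction_on with
    | zero =>
      rw [map_zero, ← map_zero f, hg, tmul_zero]
    | tmul b m =>
      obtain ⟨a, rfl⟩ := he.2 b
      rw [hl, ← hM, hg, tmul_smul, smul_tmul']
      congr 1
      exact (Algebra.smul_def a (1 : B)).trans (mul_one _)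
    | add x y hx hy => rw [map_add, hga, hx, hy]
  refine of_equiv _ (LinearEquiv.ofBijective l ⟨?_, ?_⟩) ?_
  · intro x y hxy
    rw [← hl1 x, ← hl1 y, hxy]
  · intro n
    obtain ⟨m, rfl⟩ := hf.2 n
    exact ⟨1 ⊗ₜ m, by rw [hl, one_smul]⟩
  · intro m
    change l (1 ⊗ₜ m) = f m
    rw [hl, one_smul]

end RingEquiv

section Family

variable {A : Type*} [CommRing A]

/-- A family of flat ring homs which is jointly surjective on spectra. -/
structure JFF {ι : Type*} {B : ι → Type*} [∀ i, CommRing (B i)] (φ : ∀ i, A →+* B i) : Prop where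
  flat : ∀ i, (φ i).Flat
  surj : ∀ (p : Ideal A), p.IsPrime → ∃ (i : ι) (q : Ideal (B i)), q.IsPrime ∧ q.comap (φ i) = p

theorem zero_test {ι : Type*} {B : ι → Type*} [∀ i, CommRing (B i)] [∀ i, Algebra A (B i)]
    (h : JFF (fun i => algebraMap A (B i))) {N : Type*} [AddCommGroup N] [Module A N] (x : N)
    (hx : ∀ i, (1 : B i) ⊗ₜ[A] x = 0) : x = 0 := by
  by_contra hx0
  have hne : Ideal.torsionOf A N x ≠ ⊤ := by
    intro hT
    apply hx0
    have h1 : (1 : A) ∈ Ideal.torsionOf A N x := hT ▸ Submodule.mem_top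
    rw [Ideal.mem_torsionOf_iff, one_smul] at h1
    exact h1
  obtain ⟨m, hm, hle⟩ := Ideal.exists_le_maximal _ hne
  obtain ⟨i, q, hq, hqm⟩ := h.surj m hm.isPrime
  haveI : Module.Flat A (B i) := RingHom.flat_algebraMap_iff.1 (h.flat i)
  let I := Ideal.torsionOf A N x
  let j : (A ⧸ I) →ₗ[A] N := Submodule.liftQ I (LinearMap.toSpanSingleton A N x) (by
    intro a ha
    rw [LinearMap.mem_ker, LinearMap.toSpanSingleton_apply]
    exact (Ideal.mem_torsionOf_iff x a).1 ha)
  have hj : Function.Injective j := by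
    rw [← LinearMap.ker_eq_bot]
    refine Submodule.ker_liftQ_eq_bot _ _ _ ?_
    intro a ha
    rw [LinearMap.mem_ker, LinearMap.toSpanSingleton_apply] at ha
    exact (Ideal.mem_torsionOf_iff x a).2 ha
  have hj1 : j (Submodule.Quotient.mk 1) = x := by
    change (LinearMap.toSpanSingleton A N x) 1 = x
    rw [LinearMap.toSpanSingleton_apply, one_smul]
  have h1 : (1 : B i) ⊗ₜ[A] (Submodule.Quotient.mk 1 : A ⧸ I) = 0 := by
    apply Module.Flat.lTensor_preserves_injective_linearMap (M := B i) j hj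
    rw [LinearMap.lTensor_tmul, map_zero, hj1]
    exact hx i
  let ψ : (A ⧸ I) →ₗ[A] (B i ⧸ q) := Submodule.liftQ I (Algebra.linearMap A (B i ⧸ q)) (by
    intro a ha
    rw [LinearMap.mem_ker, Algebra.linearMap_apply]
    change Ideal.Quotient.mk q (algebraMap A (B i) a) = 0
    rw [Ideal.Quotient.eq_zero_iff_mem]
    have := hle ha
    rw [← hqm] at this
    exact this)
  let χ : (B i) ⊗[A] (A ⧸ I) →ₗ[A] (B i ⧸ q) :=
    (LinearMap.mul' A (B i ⧸ q)).comp (TensorProduct.map (Ideal.Quotient.mkₐ A q).toLinearMap ψ)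
  have h2 : χ ((1 : B i) ⊗ₜ[A] (Submodule.Quotient.mk 1 : A ⧸ I)) = 1 := by
    change (Ideal.Quotient.mkₐ A q) 1 * (Algebra.linearMap A (B i ⧸ q)) 1 = 1
    rw [map_one, Algebra.linearMap_apply, map_one, one_mul]
  rw [h1, map_zero] at h2
  have h3 : (1 : B i) ∈ q := by
    rw [← Ideal.Quotient.eq_zero_iff_mem, map_one]
    exact h2.symm
  exact hq.ne_top ((Ideal.eq_top_iff_one q).2 h3)

theorem exact_fam {ι : Type*} {B : ι → Type*} [∀ i, CommRing (B i)] {φ : ∀ i, A →+* B i} (h : JFF φ)
    {M N : Type*} [AddCommGroup M] [AddCommGroup N] [Module A M] [Module A N]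
    {M' N' : ι → Type*} [∀ i, AddCommGroup (M' i)] [∀ i, AddCommGroup (N' i)]
    [∀ i, Module (B i) (M' i)] [∀ i, Module (B i) (N' i)]
    (d : M →ₗ[A] N) (d' : ∀ i, M' i →ₗ[B i] N' i) (f : ∀ i, M →+ M' i) (g : ∀ i, N →+ N' i)
    (hf : ∀ i, IsBC (φ i) (f i)) (hg : ∀ i, IsBC (φ i) (g i)) (comm : ∀ i m, g i (d m) = d' i (f i m))
    (x : N) (hx : ∀ i, ∃ z, d' i z = g i x) : ∃ m, d m = x := by
  letI : ∀ i, Algebra A (B i) := fun i => (φ i).toAlgebra
  have h0 : (Submodule.Quotient.mk x : N ⧸ LinearMap.range d) = 0 := by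
    refine zero_test (B := B) ⟨h.flat, h.surj⟩ _ ?_
    intro i
    obtain ⟨e1, he1⟩ := exists_equiv (hf i)
    obtain ⟨e2, he2⟩ := exists_equiv (hg i)
    obtain ⟨z, hz⟩ := hx i
    have h1 : ∀ y : B i ⊗[A] M, e2 (d.baseChange (B i) y) = d' i (e1 y) := by
      intro y
      induction y using TensorProduct.induction_on with
      | zero => simp
      | tmul b m => rw [LinearMap.baseChange_tmul, he2, he1, map_smul, comm]
      | add x y hx hy => rw [map_add, map_add, map_add, map_add, hx, hy]
    have h2 : (1 : B i) ⊗ₜ[A] x = d.baseChange (B i) (e1.symm z) := by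
      apply e2.injective
      rw [h1, LinearEquiv.apply_symm_apply, he2, one_smul, hz]
    have h3 : (1 : B i) ⊗ₜ[A] (Submodule.Quotient.mk x : N ⧸ LinearMap.range d) =
        ((LinearMap.range d).mkQ.baseChange (B i)) ((1 : B i) ⊗ₜ[A] x) := rfl
    rw [h3, h2]
    have h4 : ((LinearMap.range d).mkQ.baseChange (B i)).comp (d.baseChange (B i)) = 0 := by
      rw [← LinearMap.baseChange_comp, LinearMap.range_mkQ_comp, LinearMap.baseChange_zero]
    exact LinearMap.congr_fun h4 _
  rw [Submodule.Quotient.mk_eq_zero] at h0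
  exact h0

theorem inj_fam {ι : Type*} {B : ι → Type*} [∀ i, CommRing (B i)] {φ : ∀ i, A →+* B i} (h : JFF φ)
    {M : Type*} [AddCommGroup M] [Module A M] {M' : ι → Type*} [∀ i, AddCommGroup (M' i)]
    [∀ i, Module (B i) (M' i)] (f : ∀ i, M →+ M' i) (hf : ∀ i, IsBC (φ i) (f i)) (x : M)
    (hx : ∀ i, f i x = 0) : x = 0 := by
  letI : ∀ i, Algebra A (B i) := fun i => (φ i).toAlgebra
  refine zero_test (B := B) ⟨h.flat, h.surj⟩ _ ?_
  intro i
  obtain ⟨e1, he1⟩ := exists_equiv (hf i)
  apply e1.injective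
  rw [he1, one_smul, map_zero, hx]

theorem glue {ι : Type*} [Finite ι] {B : ι → Type*} [∀ i, CommRing (B i)] {φ : ∀ i, A →+* B i} (h : JFF φ)
    {B₂ : ι → ι → Type*} [∀ i j, CommRing (B₂ i j)] (δ : ∀ i j, B j →+* B₂ i j) (ε : ∀ i j, B i →+* B₂ i j)
    (hp : ∀ i j, Push (φ j) (φ i) (δ i j) (ε i j))
    {P : Type*} [AddCommGroup P] [Module A P] {P₁ : ι → Type*} [∀ i, AddCommGroup (P₁ i)]
    [∀ i, Module (B i) (P₁ i)] {P₂ : ι → ι → Type*} [∀ i j, AddCommGroup (P₂ i j)]
    [∀ i j, Module (B₂ i j) (P₂ i j)] (f : ∀ i, P →+ P₁ i) (hf : ∀ i, IsBC (φ i) (f i))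
    (d : ∀ i j, P₁ j →+ P₂ i j) (hd : ∀ i j, IsBC (δ i j) (d i j))
    (e : ∀ i j, P₁ i →+ P₂ i j) (he : ∀ i j (b : B i) (x : P₁ i), e i j (b • x) = ε i j b • e i j x)
    (w : ∀ i j p, d i j (f j p) = e i j (f i p)) (x : ∀ i, P₁ i) (hx : ∀ i j, d i j (x j) = e i j (x i)) :
    ∃ p, ∀ i, f i p = x i := by
  letI : ∀ i, Module A (P₁ i) := fun i => Module.compHom (P₁ i) (φ i)
  letI : ∀ i j, Module (B i) (P₂ i j) := fun i j => Module.compHom (P₂ i j) (ε i j)
  let N := ∀ j, P₁ j
  let dd : P →ₗ[A] N :=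
    { toFun := fun p j => f j p
      map_add' := fun p q => funext fun j => map_add _ _ _
      map_smul' := fun a p => funext fun j => (hf j).1 a p }
  let dd' : ∀ i, P₁ i →ₗ[B i] (∀ j, P₂ i j) := fun i =>
    { toFun := fun y j => e i j y
      map_add' := fun p q => funext fun j => map_add _ _ _
      map_smul' := fun b y => funext fun j => he i j b y }
  have hg : ∀ i, IsBC (φ i) ({ toFun := fun x j => d i j (x j)
                               map_zero' := funext fun i => map_zero _
                               map_add' := fun x y => funext fun i => map_add _ _ _ } : N →+ (∀ j, P₂ i j)) := by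
    intro i
    refine pi (φ := φ i) (fun j => d i j) fun j => ?_
    exact (hp i j).isBC (fun a m => rfl) (fun b m => rfl) (hd i j)
  obtain ⟨p, hp⟩ := exact_fam h dd dd' f _ hf hg (fun i m => funext fun j => w i j m) x
    (fun i => ⟨x i, funext fun j => (hx i j).symm⟩)
  exact ⟨p, fun i => congrFun hp i⟩

end Family

section Lift

/-- Universe lifts of ring homomorphisms. -/
def ulr {A B : Type*} [CommRing A] [CommRing B] (φ : A →+* B) : ULift A →+* ULift B :=
  ULift.ringEquiv.symm.toRingHom.comp (φ.comp ULift.ringEquiv.toRingHom)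

theorem push_ulr {A A' B B' : Type*} [CommRing A] [CommRing A'] [CommRing B] [CommRing B']
    {α : A →+* A'} {φ : A →+* B} {φ' : A' →+* B'} {β : B →+* B'} (h : Push α φ φ' β) :
    Push (ulr α) (ulr φ) (ulr φ') (ulr β) := by
  letI : Module A A' := Module.compHom A' α
  letI : Module B B' := Module.compHom B' β
  letI : Module (ULift A) (ULift A') := Module.compHom (ULift A') (ulr α)
  letI : Module (ULift B) (ULift B') := Module.compHom (ULift B') (ulr β)
  have h1 : IsBC (ULift.ringEquiv.toRingHom : ULift A →+* A)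
      (AddEquiv.ulift.toAddMonoidHom : ULift A' →+ A') :=
    isBC_of_bijective ULift.ringEquiv.bijective _ AddEquiv.ulift.bijective (fun a m => rfl)
  have h2 : IsBC (ULift.ringEquiv.symm.toRingHom : B →+* ULift B)
      (AddEquiv.ulift.symm.toAddMonoidHom : B' →+ ULift B') :=
    isBC_of_bijective ULift.ringEquiv.symm.bijective _ AddEquiv.ulift.symm.bijective (fun a m => rfl)
  exact comp (comp h1 h) h2

theorem jff_ulr {A : Type*} [CommRing A] {ι : Type*} {B : ι → Type*} [∀ i, CommRing (B i)] {φ : ∀ i, A →+* B i}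
    (h : JFF φ) : JFF (fun i => ulr (φ i)) where
  flat i := by
    refine RingHom.Flat.comp (RingHom.Flat.comp ?_ (h.flat i)) ?_
    · exact RingHom.Flat.of_bijective ULift.ringEquiv.bijective
    · exact RingHom.Flat.of_bijective ULift.ringEquiv.symm.bijective
  surj p hp := by
    obtain ⟨i, q, hq, hqp⟩ := h.surj (p.comap (ULift.ringEquiv.symm.toRingHom : A →+* ULift A)) (hp.comap _)
    refine ⟨i, q.comap (ULift.ringEquiv.toRingHom : ULift (B i) →+* B i), hq.comap _, ?_⟩
    ext x
    have h1 : φ i (ULift.down x) ∈ q ↔ ULift.down x ∈ q.comap (φ i) := Iff.rfl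
    rw [hqp] at h1
    exact h1

end Lift

end K186.BCAlg
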