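import Groth.Agent.BigSite.K186.Pres
import Groth.Agent.BigSite.K186.BCAlg

/-!
# Quasi-coherent modules on sites with affine objects

`AffSite J R Aff`: the objects in `Aff` behave like affine schemes.  For a sheaf of modules `M` over the sheaf of
commutative rings `R`, `BCat M U` says that `M(V)` is the base change of `M(U)` for all affine `V` over `U`.

* `bcat_of_fp`: elementwise presentations give base change;
* `bcat_of_local`: base change is local;
* `fp_of_bcat`: base change gives presentations;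
* `isQuasicoherent_iff`: `M` is quasi-coherent iff base change holds at all affine objects.
-/

set_option autoImplicit false
set_option linter.unusedSectionVars false
set_option linter.style.haveILetI false

universe w v₁ u₁

open CategoryTheory CategoryTheory.Limits Opposite
open Groth.Agent.Etbase.FFExact

namespace K186.Aff

open K186.GenRel K186.Pres K186.BCAlg

variable {C : Type u₁} [Category.{v₁} C] {J : GrothendieckTopology C} {R : Sheaf J RingCat.{w}}

variable (R) in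
/-- Sheaves of commutative rings. -/
class CommSh : Prop where
  comm : ∀ (U : Cᵒᵖ) (a b : R.obj.obj U), a * b = b * a

instance commRingSh [CommSh R] (U : Cᵒᵖ) : CommRing (R.obj.obj U) :=
  { (inferInstance : Ring (R.obj.obj U)) with mul_comm := CommSh.comm U }

variable [CommSh R]

variable (R) in
/-- restriction of functions -/
def ρ {U V : C} (f : V ⟶ U) : R.obj.obj (op U) →+* R.obj.obj (op V) := (R.obj.map f.op).hom

lemma ρ_comp {U V W : C} (f : V ⟶ U) (g : W ⟶ V) : ρ R (g ≫ f) = (ρ R g).comp (ρ R f) := by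
  ext a
  change R.obj.map (g ≫ f).op a = R.obj.map g.op (R.obj.map f.op a)
  rw [op_comp, Functor.map_comp]
  rfl

lemma ρ_id (U : C) : ρ R (𝟙 U) = RingHom.id _ := by
  ext a
  change R.obj.map (𝟙 U).op a = a
  rw [op_id, CategoryTheory.Functor.map_id]
  rfl

lemma rc_apply' {I : Type w} {X Y : C} (g : Y ⟶ X) (c : I →₀ R.obj.obj (op X)) (i : I) :
    rc (R := R) g c i = ρ R g (c i) := rfl

variable (J R) in
/-- Sites with affine objects. -/
structure AffSite (Aff : C → Prop) : Prop where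
  pb : ∀ {U V W : C} (f : V ⟶ U) (g : W ⟶ U), Aff U → Aff V → Aff W →
    ∃ (P : C) (p : P ⟶ V) (q : P ⟶ W), Aff P ∧ IsPullback p q f g ∧ Push (ρ R f) (ρ R g) (ρ R p) (ρ R q)
  cov : ∀ {U : C}, Aff U → ∀ S : Sieve U, S ∈ J U → ∃ (n : ℕ) (V : Fin n → C) (f : ∀ i, V i ⟶ U),
    (∀ i, Aff (V i)) ∧ (∀ i, S (f i)) ∧ Sieve.ofArrows V f ∈ J U ∧ JFF (fun i => ρ R (f i))
  loc : ∀ U : C, ∃ S : Sieve U, S ∈ J U ∧ ∀ ⦃V : C⦄ (f : V ⟶ U), S f →
    ∃ (W : C) (a : V ⟶ W) (b : W ⟶ U), Aff W ∧ a ≫ b = f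

variable (M : SheafOfModules.{w} R)

/-- restriction as an additive map -/
noncomputable def rsA {U V : C} (f : V ⟶ U) : M.val.obj (op U) →+ M.val.obj (op V) := (M.val.restrictₛₗ f.op).toAddMonoidHom

lemma rsA_apply {U V : C} (f : V ⟶ U) (m : M.val.obj (op U)) : rsA M f m = rs M f m := rfl

lemma rsA_smul {U V : C} (f : V ⟶ U) (a : R.obj.obj (op U)) (m : M.val.obj (op U)) :
    rsA M f (a • m) = ρ R f a • rsA M f m := rs_smul M f a m

lemma rsA_comp {U V W : C} (f : V ⟶ U) (g : W ⟶ V) : rsA M (g ≫ f) = (rsA M g).comp (rsA M f) := by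
  ext m
  exact (rs_comp M f g m).symm

/-- Base change at `U`: for all affine objects over `U` the sections are the base change of `M(U)`. -/
def BCat (Aff : C → Prop) (U : C) : Prop :=
  ∀ ⦃V : C⦄ (f : V ⟶ U), Aff V → IsBC (ρ R f) (rsA M f)

variable {M}

theorem sep {U : C} {n : ℕ} {V : Fin n → C} (f : ∀ i, V i ⟶ U) (hV : Sieve.ofArrows V f ∈ J U)
    (a b : M.val.obj (op U)) (h : ∀ i, rsA M (f i) a = rsA M (f i) b) : a = b := by
  refine ((isSheaf_type M.isSheaf).isSeparated _ hV).ext ?_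
  rintro W g ⟨Z, k, l, ⟨i⟩, rfl⟩
  change rs M (k ≫ f i) a = rs M (k ≫ f i) b
  rw [← rs_comp, ← rs_comp]
  exact congrArg (rs M k) (h i)

theorem glueSec {U : C} {n : ℕ} {V : Fin n → C} (f : ∀ i, V i ⟶ U) (hV : Sieve.ofArrows V f ∈ J U)
    (s : ∀ i, M.val.obj (op (V i)))
    (hs : ∀ (i j) (Z : C) (a : Z ⟶ V i) (b : Z ⟶ V j), a ≫ f i = b ≫ f j → rsA M a (s i) = rsA M b (s j)) :
    ∃ t : M.val.obj (op U), ∀ i, rsA M (f i) t = s i := by
  have hsh := (isSheaf_type M.isSheaf) _ hV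
  rw [Sieve.ofArrows, ← Presieve.isSheafFor_iff_generate, Presieve.isSheafFor_arrows_iff] at hsh
  obtain ⟨τ, hτ, -⟩ := hsh s (fun i j Z a b hab => hs i j Z a b hab)
  exact ⟨τ, hτ⟩

theorem BCat.comp {Aff : C → Prop} {U V : C} (h : BCat M Aff U) (f : V ⟶ U) (hV : Aff V) : BCat M Aff V := by
  intro W g hW
  have h1 := h (g ≫ f) hW
  rw [ρ_comp, rsA_comp] at h1
  exact of_comp (h f hV) (rsA_smul M g) h1

section Local

variable {Aff : C → Prop} (A : AffSite J R Aff)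

theorem glue_of {U : C} {n : ℕ} {V : Fin n → C} (f : ∀ i, V i ⟶ U) (hV : Sieve.ofArrows V f ∈ J U)
    {P : Fin n → Fin n → C} (p : ∀ i j, P i j ⟶ V i) (q : ∀ i j, P i j ⟶ V j)
    (hP : ∀ (i j) (Z : C) (a : Z ⟶ V i) (b : Z ⟶ V j), a ≫ f i = b ≫ f j →
      ∃ l : Z ⟶ P i j, l ≫ p i j = a ∧ l ≫ q i j = b)
    (s : ∀ i, M.val.obj (op (V i))) (hs : ∀ i j, rsA M (p i j) (s i) = rsA M (q i j) (s j)) :
    ∃ t : M.val.obj (op U), ∀ i, rsA M (f i) t = s i := by
  refine glueSec f hV s fun i j Z a b hab => ?_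
  obtain ⟨l, rfl, rfl⟩ := hP i j Z a b hab
  rw [rsA_comp, rsA_comp]
  exact congrArg (rsA M l) (hs i j)

theorem cover_pullback {U U' : C} {n : ℕ} {V V' : Fin n → C} (f : ∀ i, V i ⟶ U) (hV : Sieve.ofArrows V f ∈ J U)
    (g : U' ⟶ U) (a : ∀ i, V' i ⟶ V i) (b : ∀ i, V' i ⟶ U') (h : ∀ i, IsPullback (a i) (b i) (f i) g) :
    Sieve.ofArrows V' b ∈ J U' := by
  refine J.superset_covering ?_ (J.pullback_stable g hV)
  rintro Z k ⟨W, c, d, ⟨i⟩, hk⟩
  exact ⟨V' i, (h i).lift c k hk, b i, ⟨i⟩, (h i).lift_snd _ _ _⟩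

/-- The start of the Cech complex of a covering. -/
theorem exact_cech {U : C} {n : ℕ} {V : Fin n → C} (f : ∀ i, V i ⟶ U) (hV : Sieve.ofArrows V f ∈ J U)
    {P : Fin n → Fin n → C} (p : ∀ i j, P i j ⟶ V i) (q : ∀ i j, P i j ⟶ V j)
    (w : ∀ i j, p i j ≫ f i = q i j ≫ f j)
    (hP : ∀ (i j) (Z : C) (a : Z ⟶ V i) (b : Z ⟶ V j), a ≫ f i = b ≫ f j →
      ∃ l : Z ⟶ P i j, l ≫ p i j = a ∧ l ≫ q i j = b) :
    letI : ∀ i, Module (R.obj.obj (op U)) (M.val.obj (op (V i))) := fun i => Module.compHom _ (ρ R (f i))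
    letI : ∀ k : Fin n × Fin n, Module (R.obj.obj (op U)) (M.val.obj (op (P k.1 k.2))) :=
      fun k => Module.compHom _ (ρ R (p k.1 k.2 ≫ f k.1))
    ∃ (i : M.val.obj (op U) →ₗ[R.obj.obj (op U)] (∀ i, M.val.obj (op (V i))))
      (g : (∀ i, M.val.obj (op (V i))) →ₗ[R.obj.obj (op U)] (∀ k : Fin n × Fin n, M.val.obj (op (P k.1 k.2)))),
      (∀ m j, i m j = rsA M (f j) m) ∧
      (∀ s (k : Fin n × Fin n), g s k = rsA M (p k.1 k.2) (s k.1) - rsA M (q k.1 k.2) (s k.2)) ∧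
      Function.Injective i ∧ Function.Exact i g := by
  letI : ∀ i, Module (R.obj.obj (op U)) (M.val.obj (op (V i))) := fun i => Module.compHom _ (ρ R (f i))
  letI : ∀ k : Fin n × Fin n, Module (R.obj.obj (op U)) (M.val.obj (op (P k.1 k.2))) :=
      fun k => Module.compHom _ (ρ R (p k.1 k.2 ≫ f k.1))
  let i : M.val.obj (op U) →ₗ[R.obj.obj (op U)] (∀ i, M.val.obj (op (V i))) :=
    { toFun := fun m j => rsA M (f j) m
      map_add' := fun m m' => funext fun j => map_add _ _ _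
      map_smul' := fun a m => funext fun j => rsA_smul M (f j) a m }
  let g : (∀ i, M.val.obj (op (V i))) →ₗ[R.obj.obj (op U)] (∀ k : Fin n × Fin n, M.val.obj (op (P k.1 k.2))) :=
    { toFun := fun s k => rsA M (p k.1 k.2) (s k.1) - rsA M (q k.1 k.2) (s k.2)
      map_add' := fun m m' => funext fun j => by
        change rsA M (p j.1 j.2) (m j.1 + m' j.1) - rsA M (q j.1 j.2) (m j.2 + m' j.2) =
          rsA M (p j.1 j.2) (m j.1) - rsA M (q j.1 j.2) (m j.2) +
            (rsA M (p j.1 j.2) (m' j.1) - rsA M (q j.1 j.2) (m' j.2))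
        rw [map_add, map_add]
        abel
      map_smul' := fun a m => funext fun j => by
        change rsA M (p j.1 j.2) (ρ R (f j.1) a • m j.1) - rsA M (q j.1 j.2) (ρ R (f j.2) a • m j.2) =
          ρ R (p j.1 j.2 ≫ f j.1) a • (rsA M (p j.1 j.2) (m j.1) - rsA M (q j.1 j.2) (m j.2))
        rw [rsA_smul, rsA_smul, smul_sub]
        have h1 : ρ R (p j.1 j.2) (ρ R (f j.1) a) = ρ R (p j.1 j.2 ≫ f j.1) a := by rw [ρ_comp]; rfl
        have h2 : ρ R (q j.1 j.2) (ρ R (f j.2) a) = ρ R (p j.1 j.2 ≫ f j.1) a := by rw [w, ρ_comp]; rfl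
        rw [h1, h2] }
  refine ⟨i, g, fun m j => rfl, fun s k => rfl, fun m m' h => sep f hV _ _ fun j => congrFun h j, ?_⟩
  intro s
  constructor
  · intro h
    obtain ⟨t, ht⟩ := glue_of f hV p q hP s fun i j => by
      have := congrFun h (i, j)
      exact sub_eq_zero.1 this
    exact ⟨t, funext ht⟩
  · rintro ⟨t, rfl⟩
    funext k
    change rsA M (p k.1 k.2) (rsA M (f k.1) t) - rsA M (q k.1 k.2) (rsA M (f k.2) t) = 0
    have h1 : rsA M (p k.1 k.2) (rsA M (f k.1) t) = rsA M (p k.1 k.2 ≫ f k.1) t := by rw [rsA_comp]; rfl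
    have h2 : rsA M (q k.1 k.2) (rsA M (f k.2) t) = rsA M (p k.1 k.2 ≫ f k.1) t := by rw [w, rsA_comp]; rfl
    rw [h1, h2, sub_self]

include A in
/-- Flat base change from local base change. -/
theorem flat_of_local {U : C} (hU : Aff U) {n : ℕ} {V : Fin n → C} (f : ∀ i, V i ⟶ U) (hV : ∀ i, Aff (V i))
    (hc : Sieve.ofArrows V f ∈ J U) (hM : ∀ i, BCat M Aff (V i)) {U' : C} (g : U' ⟶ U) (hU' : Aff U')
    (hg : (ρ R g).Flat) : IsBC (ρ R g) (rsA M g) := by
  choose P p q hPA hP hPp using fun i j => A.pb (f i) (f j) hU (hV i) (hV j)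
  choose V' a b hVA' hV' hVp using fun i => A.pb (f i) g hU (hV i) hU'
  choose P' c d hPA' hP' hPp' using fun i j => A.pb (p i j ≫ f i) g hU (hPA i j) hU'
  let p' : ∀ i j, P' i j ⟶ V' i := fun i j => (hV' i).lift (c i j ≫ p i j) (d i j) (by
    rw [Category.assoc]; exact (hP' i j).w)
  let q' : ∀ i j, P' i j ⟶ V' j := fun i j => (hV' j).lift (c i j ≫ q i j) (d i j) (by
    rw [Category.assoc, ← (hP i j).w]; exact (hP' i j).w)
  have hp1 : ∀ i j, p' i j ≫ a i = c i j ≫ p i j := fun i j => (hV' i).lift_fst _ _ _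
  have hp2 : ∀ i j, p' i j ≫ b i = d i j := fun i j => (hV' i).lift_snd _ _ _
  have hq1 : ∀ i j, q' i j ≫ a j = c i j ≫ q i j := fun i j => (hV' j).lift_fst _ _ _
  have hq2 : ∀ i j, q' i j ≫ b j = d i j := fun i j => (hV' j).lift_snd _ _ _
  have hc' := cover_pullback f hc g a b hV'
  letI : ∀ i, Module (R.obj.obj (op U)) (M.val.obj (op (V i))) := fun i => Module.compHom _ (ρ R (f i))
  letI : ∀ k : Fin n × Fin n, Module (R.obj.obj (op U)) (M.val.obj (op (P k.1 k.2))) :=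
      fun k => Module.compHom _ (ρ R (p k.1 k.2 ≫ f k.1))
  letI : ∀ i, Module (R.obj.obj (op U')) (M.val.obj (op (V' i))) := fun i => Module.compHom _ (ρ R (b i))
  letI : ∀ k : Fin n × Fin n, Module (R.obj.obj (op U')) (M.val.obj (op (P' k.1 k.2))) :=
      fun k => Module.compHom _ (ρ R (p' k.1 k.2 ≫ b k.1))
  obtain ⟨i₁, g₁, hi₁, hg₁, hinj₁, hex₁⟩ := exact_cech (M := M) f hc p q (fun i j => (hP i j).w)
    (fun i j Z x y hxy => ⟨(hP i j).lift x y hxy, (hP i j).lift_fst _ _ _, (hP i j).lift_snd _ _ _⟩)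
  obtain ⟨i₂, g₂, hi₂, hg₂, hinj₂, hex₂⟩ := exact_cech (M := M) b hc' p' q' (fun i j => (hp2 i j).trans (hq2 i j).symm)
    (fun i j Z x y hxy => by
      have h1 : (x ≫ a i) ≫ f i = (y ≫ a j) ≫ f j := by
        rw [Category.assoc, Category.assoc, (hV' i).w, (hV' j).w, reassoc_of% hxy]
      let l := (hP i j).lift (x ≫ a i) (y ≫ a j) h1
      have hl1 : l ≫ p i j = x ≫ a i := (hP i j).lift_fst _ _ _
      have hl2 : l ≫ q i j = y ≫ a j := (hP i j).lift_snd _ _ _
      have h2 : l ≫ (p i j ≫ f i) = (x ≫ b i) ≫ g := by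
        rw [reassoc_of% hl1, (hV' i).w, Category.assoc]
      let m := (hP' i j).lift l (x ≫ b i) h2
      have hm1 : m ≫ c i j = l := (hP' i j).lift_fst _ _ _
      have hm2 : m ≫ d i j = x ≫ b i := (hP' i j).lift_snd _ _ _
      refine ⟨m, ?_, ?_⟩
      · apply (hV' i).hom_ext
        · rw [Category.assoc, hp1, reassoc_of% hm1, hl1]
        · rw [Category.assoc, hp2, hm2]
      · apply (hV' j).hom_ext
        · rw [Category.assoc, hq1, reassoc_of% hm1, hl2]
        · rw [Category.assoc, hq2, hm2, hxy])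
  have h₂ := K186.BCAlg.pi (φ := ρ R g) (fun i => rsA M (a i)) (fun i =>
    (hVp i).isBC (fun _ _ => rfl) (fun _ _ => rfl) (hM i (a i) (hVA' i)))
  have h₃ := K186.BCAlg.pi (φ := ρ R g) (fun k : Fin n × Fin n => rsA M (c k.1 k.2)) (fun k =>
    (hPp' k.1 k.2).isBC (fun _ _ => rfl) (fun x m => by
      change ρ R (p' k.1 k.2 ≫ b k.1) x • m = ρ R (d k.1 k.2) x • m
      rw [hp2]) ((hM k.1).comp (p k.1 k.2) (hPA k.1 k.2) (c k.1 k.2) (hPA' k.1 k.2)))
  refine left_exact hg h₂ h₃ i₁ g₁ hinj₁ hex₁ i₂ g₂ hinj₂ hex₂ (rsA M g) ?_ ?_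
  · intro x
    funext i
    change rsA M (a i) (i₁ x i) = i₂ (rsA M g x) i
    rw [hi₁, hi₂]
    change (rsA M (a i)).comp (rsA M (f i)) x = (rsA M (b i)).comp (rsA M g) x
    rw [← rsA_comp, ← rsA_comp, (hV' i).w]
  · intro x
    funext k
    change rsA M (c k.1 k.2) (g₁ x k) = g₂ (fun i => rsA M (a i) (x i)) k
    rw [hg₁, hg₂, map_sub]
    change (rsA M (c k.1 k.2)).comp (rsA M (p k.1 k.2)) (x k.1) - (rsA M (c k.1 k.2)).comp (rsA M (q k.1 k.2)) (x k.2) =
      (rsA M (p' k.1 k.2)).comp (rsA M (a k.1)) (x k.1) - (rsA M (q' k.1 k.2)).comp (rsA M (a k.2)) (x k.2)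
    rw [← rsA_comp, ← rsA_comp, ← rsA_comp, ← rsA_comp, hp1, hq1]

include A in
/-- Base change is local. -/
theorem bcat_of_local {U : C} (hU : Aff U) (S : Sieve U) (hS : S ∈ J U)
    (hM : ∀ ⦃V : C⦄ (f : V ⟶ U), S f → Aff V → BCat M Aff V) : BCat M Aff U := by
  -- flat base change at `U` and at all objects over `U`
  obtain ⟨n, V, f, hV, hf, hc, hj⟩ := A.cov hU S hS
  have h1 : ∀ i, IsBC (ρ R (f i)) (rsA M (f i)) := fun i =>
    flat_of_local A hU f hV hc (fun i => hM (f i) (hf i) (hV i)) (f i) (hV i) (hj.flat i)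
  intro U' g hU'
  obtain ⟨m, W, k, hW, hk, hkc, hkj⟩ := A.cov hU' ((Sieve.ofArrows V f).pullback g) (J.pullback_stable g hc)
  have hWM : ∀ j, ∃ i, ∃ l : W j ⟶ V i, l ≫ f i = k j ≫ g := by
    intro j
    obtain ⟨Z, a, b, ⟨i⟩, h⟩ := hk j
    exact ⟨i, a, h⟩
  choose i l hl using hWM
  have hWB : ∀ j, BCat M Aff (W j) := fun j => (hM (f (i j)) (hf _) (hV _)).comp (l j) (hW j)
  -- flat base change at `U'`
  have h2 : ∀ j, IsBC (ρ R (k j)) (rsA M (k j)) := fun j =>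
    flat_of_local A hU' k hW hkc hWB (k j) (hW j) (hkj.flat j)
  -- base change from `U` to `W j`
  have h3 : ∀ j, IsBC (ρ R (k j ≫ g)) (rsA M (k j ≫ g)) := by
    intro j
    rw [← hl, ρ_comp, rsA_comp]
    exact comp (h1 _) (hM (f (i j)) (hf _) (hV _) (l j) (hW j))
  letI : Algebra (R.obj.obj (op U)) (R.obj.obj (op U')) := (ρ R g).toAlgebra
  let P := TensorProduct (R.obj.obj (op U)) (R.obj.obj (op U')) (M.val.obj (op U))
  let κ : M.val.obj (op U) →+ P :=
    (TensorProduct.mk (R.obj.obj (op U)) (R.obj.obj (op U')) (M.val.obj (op U)) 1).toAddMonoidHom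
  have hκ : IsBC (ρ R g) κ := exists_isBC (ρ R g) (M.val.obj (op U))
  obtain ⟨θ, hθ1, hθ2⟩ := exists_lift (ψ := RingHom.id _) hκ (rsA M g) (fun a m => rsA_smul M g a m)
  let θ' : P →ₗ[R.obj.obj (op U')] M.val.obj (op U') :=
    { toFun := θ, map_add' := θ.map_add, map_smul' := hθ1 }
  -- `P → M(W j)` is a base change
  have h4 : ∀ j, IsBC (ρ R (k j)) ((rsA M (k j)).comp θ) := by
    intro j
    refine of_comp hκ (fun b n => ?_) ?_
    · change rsA M (k j) (θ (b • n)) = _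
      rw [hθ1]
      exact rsA_smul M (k j) b (θ n)
    · have e : ((rsA M (k j)).comp θ).comp κ = rsA M (k j ≫ g) := by
        rw [rsA_comp]
        ext m
        exact congrArg (rsA M (k j)) (hθ2 m)
      rw [e, ← ρ_comp]
      exact h3 j
  refine of_bijective hκ θ' ⟨?_, ?_⟩ hθ2
  · refine (injective_iff_map_eq_zero θ').2 fun x hx => ?_
    refine inj_fam hkj _ h4 x fun j => ?_
    change rsA M (k j) (θ' x) = 0
    rw [hx, map_zero]
  · intro x
    exact exact_fam hkj θ' (fun j => LinearMap.id) _ _ h4 h2 (fun j m => rfl) x (fun j => ⟨_, rfl⟩)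

end Local

end K186.Aff
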