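import Groth.Agent.BigSite.K186.Aff

/-!
# Presentations and base change on sites with affine objects
-/

set_option autoImplicit false
set_option linter.unusedSectionVars false
set_option linter.style.haveILetI false

universe w v₁ u₁

open CategoryTheory CategoryTheory.Limits Opposite
open Groth.Agent.Etbase.FFExact

namespace K186.Aff

open K186.GenRel K186.Pres K186.BCAlg

variable {C : Type u₁} [Category.{v₁} C] {J : GrothendieckTopology C} {R : Sheaf J RingCat.{w}} [CommSh R]
  {M : SheafOfModules.{w} R}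

lemma lcE_rs {I : Type w} {X Y Z : C} (f : Y ⟶ X) (g : Z ⟶ Y) (s : I → M.val.obj (op X))
    (c : I →₀ R.obj.obj (op Y)) : rsA M g (lcE M f s c) = lcE M (g ≫ f) s (rc (R := R) g c) := by
  have h := rs_lc M g (fun i => rs M f (s i)) c
  refine h.trans ?_
  unfold lcE
  congr 1
  congr 1
  funext i
  exact rs_comp M f g (s i)

lemma lcR_rc {I K : Type w} {X Y Z : C} (f : Y ⟶ X) (g : Z ⟶ Y) (r : K → I →₀ R.obj.obj (op X))
    (d : K →₀ R.obj.obj (op Y)) : rc (R := R) g (lcR f r d) = lcR (g ≫ f) r (rc (R := R) g d) := by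
  unfold lcR
  induction d using Finsupp.induction_linear with
  | zero => rw [map_zero, rc_zero, rc_zero, map_zero]
  | add x y hx hy => rw [map_add, rc_add, hx, hy, rc_add, map_add]
  | single k a =>
    have h1 : rc (R := R) g (Finsupp.single k a) = Finsupp.single k (ρ R g a) := Finsupp.mapRange_single
    rw [h1, Finsupp.linearCombination_single, Finsupp.linearCombination_single, rc_smul, rc_comp]
    rfl

section Coker

variable {U : C} {I K : Type w} (r : K → I →₀ R.obj.obj (op U))

/-- The module with generators `I` and relations `r`. -/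
abbrev N0 : Type w := (I →₀ R.obj.obj (op U)) ⧸ Submodule.span (R.obj.obj (op U)) (Set.range r)

/-- its generators -/
noncomputable def n0 (i : I) : N0 r := Submodule.Quotient.mk (Finsupp.single i 1)

lemma mk_eq (c : I →₀ R.obj.obj (op U)) :
    (Submodule.Quotient.mk c : N0 r) = Finsupp.linearCombination (R.obj.obj (op U)) (n0 r) c := by
  induction c using Finsupp.induction_linear with
  | zero => rw [Submodule.Quotient.mk_zero, map_zero]
  | add x y hx hy => rw [Submodule.Quotient.mk_add, hx, hy, map_add]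
  | single i a =>
    rw [Finsupp.linearCombination_single, n0, ← Submodule.Quotient.mk_smul, Finsupp.smul_single, smul_eq_mul, mul_one]

variable {V : C} (f : V ⟶ U) {P : Type*} [AddCommGroup P] [Module (R.obj.obj (op V)) P] {κ : N0 r →+ P}
  (hκ : IsBC (ρ R f) κ)

/-- The element of `P` with given coefficients. -/
noncomputable def elt (κ : N0 r →+ P) (c : I →₀ R.obj.obj (op V)) : P :=
  Finsupp.linearCombination (R.obj.obj (op V)) (fun i => κ (n0 r i)) c

include hκ in
lemma elt_rc (c : I →₀ R.obj.obj (op U)) : elt r κ (rc (R := R) f c) = κ (Submodule.Quotient.mk c) := by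
  rw [mk_eq]
  unfold elt
  induction c using Finsupp.induction_linear with
  | zero => rw [map_zero, rc_zero, map_zero, map_zero]
  | add x y hx hy => rw [map_add, rc_add, map_add, hx, hy, map_add]
  | single i a =>
    have h1 : rc (R := R) f (Finsupp.single i a) = Finsupp.single i (ρ R f a) := Finsupp.mapRange_single
    rw [h1, Finsupp.linearCombination_single, Finsupp.linearCombination_single, hκ.1]

include hκ in
lemma exists_elt (p : P) : ∃ c : I →₀ R.obj.obj (op V), elt r κ c = p := by
  have h := mem_span hκ p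
  have h2 : Submodule.span (R.obj.obj (op V)) (Set.range κ) ≤
      LinearMap.range (Finsupp.linearCombination (R.obj.obj (op V)) (fun i => κ (n0 r i))) := by
    rw [Submodule.span_le]
    rintro _ ⟨n, rfl⟩
    obtain ⟨c, rfl⟩ := Submodule.Quotient.mk_surjective _ n
    exact ⟨rc (R := R) f c, elt_rc r f hκ c⟩
  exact h2 h

include hκ in
lemma elt_lcR (d : K →₀ R.obj.obj (op V)) : elt r κ (lcR f r d) = 0 := by
  have h0 : ∀ k, elt r κ (rc (R := R) f (r k)) = 0 := by
    intro k
    rw [elt_rc r f hκ]
    have : (Submodule.Quotient.mk (r k) : N0 r) = 0 :=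
      (Submodule.Quotient.mk_eq_zero _).2 (Submodule.subset_span ⟨k, rfl⟩)
    rw [this, map_zero]
  unfold lcR
  induction d using Finsupp.induction_linear with
  | zero => rw [map_zero]; exact map_zero _
  | add x y hx hy =>
    rw [map_add]
    refine (map_add (Finsupp.linearCombination (R.obj.obj (op V)) (fun i => κ (n0 r i))) _ _).trans ?_
    change elt r κ _ + elt r κ _ = 0
    rw [hx, hy, add_zero]
  | single k a =>
    rw [Finsupp.linearCombination_single]
    refine (map_smul (Finsupp.linearCombination (R.obj.obj (op V)) (fun i => κ (n0 r i))) _ _).trans ?_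
    change a • elt r κ _ = 0
    rw [h0, smul_zero]

end Coker

section FPBC

variable {Aff : C → Prop} (A : AffSite J R Aff)

include A in
/-- Presentations give base change. -/
theorem bcat_of_fp {U : C} (hU : Aff U) {I K : Type w} {s : I → M.val.obj (op U)} {r : K → I →₀ R.obj.obj (op U)}
    (h : FP M U s r) : BCat M Aff U := by
  classical
  -- the tensor products
  let P : ∀ {V : C} (_ : V ⟶ U), Type w := fun {V} f =>
    letI : Algebra (R.obj.obj (op U)) (R.obj.obj (op V)) := (ρ R f).toAlgebra
    TensorProduct (R.obj.obj (op U)) (R.obj.obj (op V)) (N0 r)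
  letI iP1 : ∀ {V : C} (f : V ⟶ U), AddCommGroup (P f) := fun {V} f =>
    letI : Algebra (R.obj.obj (op U)) (R.obj.obj (op V)) := (ρ R f).toAlgebra
    inferInstanceAs (AddCommGroup (TensorProduct (R.obj.obj (op U)) (R.obj.obj (op V)) (N0 r)))
  letI iP2 : ∀ {V : C} (f : V ⟶ U), Module (R.obj.obj (op V)) (P f) := fun {V} f =>
    letI : Algebra (R.obj.obj (op U)) (R.obj.obj (op V)) := (ρ R f).toAlgebra
    inferInstanceAs (Module (R.obj.obj (op V)) (TensorProduct (R.obj.obj (op U)) (R.obj.obj (op V)) (N0 r)))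
  let κ : ∀ {V : C} (f : V ⟶ U), N0 r →+ P f := fun {V} f =>
    letI : Algebra (R.obj.obj (op U)) (R.obj.obj (op V)) := (ρ R f).toAlgebra
    (TensorProduct.mk (R.obj.obj (op U)) (R.obj.obj (op V)) (N0 r) 1).toAddMonoidHom
  have hκ : ∀ {V : C} (f : V ⟶ U), IsBC (ρ R f) (κ f) := fun {V} f => exists_isBC (ρ R f) (N0 r)
  -- the map to `M`
  let σ₀ : N0 r →ₗ[R.obj.obj (op U)] M.val.obj (op U) :=
    Submodule.liftQ _ (Finsupp.linearCombination (R.obj.obj (op U)) s) (by
      rw [Submodule.span_le]
      rintro _ ⟨k, rfl⟩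
      exact h.rel k)
  have hσ₀ : ∀ i, σ₀ (n0 r i) = s i := fun i => by
    change Finsupp.linearCombination (R.obj.obj (op U)) s (Finsupp.single i 1) = s i
    rw [Finsupp.linearCombination_single, one_smul]
  have hθ := fun {V : C} (f : V ⟶ U) => exists_lift (ψ := RingHom.id _) (hκ f) ((rsA M f).comp σ₀.toAddMonoidHom)
    (fun a m => by
      change rsA M f (σ₀ (a • m)) = _
      rw [map_smul]
      exact rsA_smul M f a _)
  choose θ hθ1 hθ2 using @hθ
  let θ' : ∀ {V : C} (f : V ⟶ U), P f →ₗ[R.obj.obj (op V)] M.val.obj (op V) := fun {V} f =>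
    { toFun := θ f, map_add' := (θ f).map_add, map_smul' := hθ1 f }
  have hθe : ∀ {V : C} (f : V ⟶ U) (c : I →₀ R.obj.obj (op V)), θ' f (elt r (κ f) c) = lcE M f s c := by
    intro V f c
    unfold elt lcE
    rw [Finsupp.linearCombination_apply, Finsupp.linearCombination_apply, Finsupp.sum, Finsupp.sum, map_sum]
    refine Finset.sum_congr rfl fun i _ => ?_
    rw [map_smul]
    congr 1
    refine (hθ2 f (n0 r i)).trans ?_
    change rsA M f (σ₀ (n0 r i)) = _
    rw [hσ₀]
    rfl
  -- the transition maps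
  have hπ := fun {V W : C} (f : V ⟶ U) (f' : W ⟶ U) (g : W ⟶ V) (h : g ≫ f = f') =>
    exists_lift (ψ := ρ R g) (hκ f) (κ f')
      (fun a m => by
        rw [(hκ f').1, ← h, ρ_comp]
        rfl)
  choose π hπ1 hπ2 using @hπ
  have hπB : ∀ {V W : C} (f : V ⟶ U) (f' : W ⟶ U) (g : W ⟶ V) (h : g ≫ f = f'), IsBC (ρ R g) (π f f' g h) := by
    intro V W f f' g h
    refine of_comp (hκ f) (hπ1 f f' g h) ?_
    have e : (π f f' g h).comp (κ f) = κ f' := by
      ext m
      exact hπ2 f f' g h m
    rw [e, ← ρ_comp, h]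
    exact hκ _
  have hπe : ∀ {V W : C} (f : V ⟶ U) (f' : W ⟶ U) (g : W ⟶ V) (h : g ≫ f = f') (c : I →₀ R.obj.obj (op V)),
      π f f' g h (elt r (κ f) c) = elt r (κ f') (rc (R := R) g c) := by
    intro V W f f' g h c
    unfold elt
    induction c using Finsupp.induction_linear with
    | zero => rw [map_zero, map_zero, rc_zero, map_zero]
    | add x y hx hy => rw [map_add, map_add, hx, hy, rc_add, map_add]
    | single i a =>
      have h1 : rc (R := R) g (Finsupp.single i a) = Finsupp.single i (ρ R g a) := Finsupp.mapRange_single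
      rw [h1, Finsupp.linearCombination_single, Finsupp.linearCombination_single, hπ1, hπ2]
  have hθπ : ∀ {V W : C} (f : V ⟶ U) (f' : W ⟶ U) (g : W ⟶ V) (h : g ≫ f = f') (p : P f),
      θ' f' (π f f' g h p) = rsA M g (θ' f p) := by
    intro V W f f' g h p
    obtain ⟨c, rfl⟩ := exists_elt r f (hκ f) p
    rw [hπe, hθe, hθe, lcE_rs, h]
  -- injectivity
  have hinj : ∀ {V : C} (f : V ⟶ U), Aff V → ∀ p : P f, θ' f p = 0 → p = 0 := by
    intro V f hV p hp
    obtain ⟨c, rfl⟩ := exists_elt r f (hκ f) p
    rw [hθe] at hp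
    obtain ⟨S, hS, hd⟩ := h.ker f c hp
    obtain ⟨n, W, g, hW, hg, hc, hj⟩ := A.cov hV S hS
    refine inj_fam hj (fun i => π f _ (g i) rfl) (fun i => hπB f _ (g i) rfl) _ fun i => ?_
    obtain ⟨d, hd⟩ := hd (g i) (hg i)
    rw [hπe, hd]
    exact elt_lcR r _ (hκ _) d
  have hinj' : ∀ {V : C} (f : V ⟶ U), Aff V → ∀ p q : P f, θ' f p = θ' f q → p = q := by
    intro V f hV p q hpq
    refine sub_eq_zero.1 (hinj f hV (p - q) ?_)
    rw [map_sub, hpq, sub_self]
  -- surjectivity
  have hsurj : ∀ {V : C} (f : V ⟶ U), Aff V → ∀ x : M.val.obj (op V), ∃ p : P f, θ' f p = x := by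
    intro V f hV x
    obtain ⟨S, hS, hd⟩ := h.gen f x
    obtain ⟨n, W, g, hW, hg, hc, hj⟩ := A.cov hV S hS
    choose c hc' using fun i => hd (g i) (hg i)
    choose Q a b hQA hQ hQp using fun i j => A.pb (g j) (g i) hV (hW j) (hW i)
    have hx1 : ∀ i, θ' (g i ≫ f) (elt r (κ (g i ≫ f)) (c i)) = rsA M (g i) x := by
      intro i
      rw [hθe]
      exact (hc' i).symm
    have hrr : ∀ (i j) (y : M.val.obj (op V)), rsA M (a i j) (rsA M (g j) y) = rsA M (b i j) (rsA M (g i) y) := by
      intro i j y
      change ((rsA M (a i j)).comp (rsA M (g j))) y = ((rsA M (b i j)).comp (rsA M (g i))) y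
      rw [← rsA_comp, ← rsA_comp, (hQ i j).w]
    obtain ⟨p, hp⟩ := glue hj (fun i j => ρ R (a i j)) (fun i j => ρ R (b i j)) (fun i j => hQp i j)
      (P := P f) (P₁ := fun i => P (g i ≫ f)) (P₂ := fun i j => P (a i j ≫ g j ≫ f))
      (fun i => π f _ (g i) rfl) (fun i => hπB f _ (g i) rfl)
      (fun i j => π (g j ≫ f) _ (a i j) rfl) (fun i j => hπB _ _ _ _)
      (fun i j => π (g i ≫ f) _ (b i j) (by
        rw [← Category.assoc, ← Category.assoc, (hQ i j).w])) (fun i j => hπ1 _ _ _ _)
      (fun i j p => hinj' _ (hQA i j) _ _ (by rw [hθπ, hθπ, hθπ, hθπ, hrr]))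
      (fun i => elt r (κ (g i ≫ f)) (c i)) (fun i j => hinj' _ (hQA i j) _ _ (by
        rw [hθπ, hθπ, hx1, hx1, hrr]))
    refine ⟨p, sep g hc _ _ fun i => ?_⟩
    rw [← hθπ f _ (g i) rfl, hp, hx1]
  -- conclusion
  have hbij : ∀ {V : C} (f : V ⟶ U), Aff V → Function.Bijective (θ' f) := fun {V} f hV =>
    ⟨fun p q hpq => hinj' f hV p q hpq, hsurj f hV⟩
  have hσ : ∀ {V : C} (f : V ⟶ U), Aff V → IsBC (ρ R f) ((rsA M f).comp σ₀.toAddMonoidHom) :=
    fun {V} f hV => of_bijective (hκ f) (θ' f) (hbij f hV) (hθ2 f)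
  intro V f hV
  refine of_comp (φ := RingHom.id _) (f := σ₀.toAddMonoidHom) ?_ (rsA_smul M f) (hσ f hV)
  have h1 := hσ (𝟙 U) hU
  rw [ρ_id] at h1
  have e : (rsA M (𝟙 U)).comp σ₀.toAddMonoidHom = σ₀.toAddMonoidHom := by
    ext m
    exact rs_id M _
  rw [e] at h1
  exact h1

end FPBC

section Converse

variable {Aff : C → Prop} (A : AffSite J R Aff)

/-- coefficients of relations -/
abbrev RelK (M : SheafOfModules.{w} R) (U : C) : Type w :=
  LinearMap.ker (Finsupp.linearCombination (R.obj.obj (op U)) (id : M.val.obj (op U) → M.val.obj (op U)))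

include A in
/-- Base change gives presentations. -/
theorem fp_of_bcat {U : C} (h : BCat M Aff U) :
    FP M U (id : M.val.obj (op U) → M.val.obj (op U)) (fun k : RelK M U => k.1) where
  rel k := k.2
  gen {Y} f t := by
    obtain ⟨S, hS, hl⟩ := A.loc Y
    refine ⟨S, hS, fun Z g hg => ?_⟩
    obtain ⟨W, a, b, hW, rfl⟩ := hl g hg
    have h1 := mem_span (h (b ≫ f) hW) (rsA M b t)
    have h2 : Set.range (rsA M (b ≫ f)) = Set.range (fun m : M.val.obj (op U) => rs M (b ≫ f) m) := rfl
    rw [h2, Finsupp.mem_span_range_iff_exists_finsupp] at h1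
    obtain ⟨c, hc⟩ := h1
    refine ⟨rc (R := R) a c, ?_⟩
    have h3 : rs M (a ≫ b) t = rsA M a (rsA M b t) := (rs_comp M b a t).symm
    rw [h3, ← hc]
    have h4 := lcE_rs (M := M) (b ≫ f) a id c
    rw [← Category.assoc] at h4
    exact h4
  ker {Y} f c hc := by
    classical
    obtain ⟨S, hS, hl⟩ := A.loc Y
    refine ⟨S, hS, fun Z g hg => ?_⟩
    obtain ⟨W, a, b, hW, rfl⟩ := hl g hg
    -- reduction to `W`
    suffices hd : ∃ d : RelK M U →₀ R.obj.obj (op W), rc (R := R) b c = lcR (b ≫ f) (fun k : RelK M U => k.1) d by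
      obtain ⟨d, hd⟩ := hd
      refine ⟨rc (R := R) a d, ?_⟩
      rw [← rc_comp, hd, lcR_rc, Category.assoc]
    have hc' : lcE M (b ≫ f) id (rc (R := R) b c) = 0 := by
      rw [← lcE_rs, hc, map_zero]
    generalize rc (R := R) b c = c' at hc'
    let Sp : Submodule (R.obj.obj (op W)) (M.val.obj (op U) →₀ R.obj.obj (op W)) :=
      Submodule.span _ (Set.range (fun k : RelK M U => rc (R := R) (b ≫ f) k.1))
    let Q := (M.val.obj (op U) →₀ R.obj.obj (op W)) ⧸ Sp
    have hSp : ∀ x : M.val.obj (op U) →₀ R.obj.obj (op U),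
        Finsupp.linearCombination (R.obj.obj (op U)) (id : M.val.obj (op U) → M.val.obj (op U)) x = 0 →
        (Submodule.Quotient.mk (rc (R := R) (b ≫ f) x) : Q) = 0 := by
      intro x hx
      exact (Submodule.Quotient.mk_eq_zero _).2 (Submodule.subset_span ⟨⟨x, hx⟩, rfl⟩)
    have hsing : ∀ (m : M.val.obj (op U)) (x : R.obj.obj (op U)),
        rc (R := R) (b ≫ f) (Finsupp.single m x) = Finsupp.single m (ρ R (b ≫ f) x) :=
      fun m x => Finsupp.mapRange_single
    let τ : M.val.obj (op U) →+ Q :=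
      { toFun := fun m => Submodule.Quotient.mk (rc (R := R) (b ≫ f) (Finsupp.single m 1))
        map_zero' := hSp _ (by rw [Finsupp.linearCombination_single, one_smul]; rfl)
        map_add' := fun m m' => by
          have h1 := hSp (Finsupp.single (m + m') 1 - (Finsupp.single m 1 + Finsupp.single m' 1)) (by
            rw [map_sub, map_add, Finsupp.linearCombination_single, Finsupp.linearCombination_single,
              Finsupp.linearCombination_single, one_smul, one_smul, one_smul]
            exact sub_self _)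
          have h2 : rc (R := R) (b ≫ f) (Finsupp.single (m + m') 1 - (Finsupp.single m 1 + Finsupp.single m' 1)) =
              rc (R := R) (b ≫ f) (Finsupp.single (m + m') 1) - (rc (R := R) (b ≫ f) (Finsupp.single m 1) +
                rc (R := R) (b ≫ f) (Finsupp.single m' 1)) := by
            rw [sub_eq_add_neg, rc_add, ← rc_add (R := R) (b ≫ f) (Finsupp.single m 1), sub_eq_add_neg]
            congr 1
            ext i
            exact map_neg (ρ R (b ≫ f)) _
          rw [h2, Submodule.Quotient.mk_sub, Submodule.Quotient.mk_add] at h1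
          exact sub_eq_zero.1 h1 }
    have hτ : ∀ (x : R.obj.obj (op U)) (m : M.val.obj (op U)), τ (x • m) = (RingHom.id _) (ρ R (b ≫ f) x) • τ m := by
      intro x m
      have h1 := hSp (Finsupp.single (x • m) 1 - Finsupp.single m x) (by
        rw [map_sub, Finsupp.linearCombination_single, Finsupp.linearCombination_single, one_smul]
        exact sub_self _)
      have h2 : rc (R := R) (b ≫ f) (Finsupp.single (x • m) 1 - Finsupp.single m x) =
          rc (R := R) (b ≫ f) (Finsupp.single (x • m) 1) - ρ R (b ≫ f) x • rc (R := R) (b ≫ f) (Finsupp.single m 1) := by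
        rw [sub_eq_add_neg, rc_add, sub_eq_add_neg, hsing m 1, Finsupp.smul_single, map_one, smul_eq_mul, mul_one,
          ← hsing]
        congr 1
        ext i
        exact map_neg (ρ R (b ≫ f)) _
      rw [h2, Submodule.Quotient.mk_sub, Submodule.Quotient.mk_smul] at h1
      exact sub_eq_zero.1 h1
    obtain ⟨l, hl1, hl2⟩ := exists_lift (ψ := RingHom.id _) (h (b ≫ f) hW) τ hτ
    have hlc : ∀ c : M.val.obj (op U) →₀ R.obj.obj (op W), l (lcE M (b ≫ f) id c) = Submodule.Quotient.mk c := by
      intro c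
      unfold lcE
      induction c using Finsupp.induction_linear with
      | zero => rw [map_zero, map_zero, Submodule.Quotient.mk_zero]
      | add x y hx hy => rw [map_add, map_add, hx, hy, Submodule.Quotient.mk_add]
      | single m x =>
        rw [Finsupp.linearCombination_single, hl1]
        have h3 : l (rs M (b ≫ f) (id m)) = τ m := hl2 m
        rw [h3]
        change x • (Submodule.Quotient.mk (rc (R := R) (b ≫ f) (Finsupp.single m 1)) : Q) = _
        rw [hsing, map_one, ← Submodule.Quotient.mk_smul, Finsupp.smul_single, smul_eq_mul, mul_one]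
    have h5 : (Submodule.Quotient.mk c' : Q) = 0 := by
      rw [← hlc, hc', map_zero]
    have h6 : c' ∈ Sp := (Submodule.Quotient.mk_eq_zero _).1 h5
    rw [Finsupp.mem_span_range_iff_exists_finsupp] at h6
    obtain ⟨d, hd⟩ := h6
    exact ⟨d, hd.symm⟩

end Converse

section Main

variable [∀ X, HasSheafify (J.over X) AddCommGrpCat.{w}] [∀ X, (J.over X).WEqualsLocallyBijective AddCommGrpCat.{w}]
  [∀ X, (J.over X).HasSheafCompose (forget₂ RingCat.{w} AddCommGrpCat.{w})]
  {Aff : C → Prop} (A : AffSite J R Aff)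

include A in
theorem AffSite.qc {U : C} (hU : Aff U) : QC J U := by
  intro S hS
  obtain ⟨n, V, f, hV, hf, hc, hj⟩ := A.cov hU S hS
  exact ⟨n, V, f, hf, hc⟩

include A in
/-- Quasi-coherent modules have base change on affine objects. -/
theorem bcat_of_isQuasicoherent [M.IsQuasicoherent] {U : C} (hU : Aff U) : BCat M Aff U := by
  obtain ⟨⟨q⟩⟩ := (inferInstance : M.IsQuasicoherent)
  refine bcat_of_local A hU _ (q.coversTop U) ?_
  intro V f hf hV
  obtain ⟨i, ⟨g⟩⟩ := (Sieve.mem_ofObjects_iff ..).1 hf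
  obtain ⟨I, K, s, r, h⟩ := fp_of_presentation (q.presentation i) g (A.qc hV)
  exact bcat_of_fp A hV h

include A in
/-- Base change on a family of objects covering the final object gives quasi-coherence. -/
theorem isQuasicoherent_of_bcat {ι : Type*} (X : ι → C) (hX : J.CoversTop X) (h : ∀ i, BCat M Aff (X i)) :
    M.IsQuasicoherent :=
  SheafOfModules.QuasicoherentData.isQuasicoherent
    { I := ι
      X := X
      coversTop := hX
      presentation := fun i => (presentation_of_fp (fp_of_bcat A (h i))).some }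

include A in
theorem coversTop_aff : J.CoversTop (fun U : {U : C // Aff U} => U.1) := by
  intro U
  obtain ⟨S, hS, h⟩ := A.loc U
  refine J.superset_covering (fun V f hf => ?_) hS
  obtain ⟨W, a, b, hW, rfl⟩ := h f hf
  exact (Sieve.mem_ofObjects_iff ..).2 ⟨⟨W, hW⟩, ⟨a⟩⟩

include A in
/-- Quasi-coherent modules are those with base change on affine objects. -/
theorem isQuasicoherent_iff : M.IsQuasicoherent ↔ ∀ ⦃U : C⦄, Aff U → BCat M Aff U :=
  ⟨fun _ _ hU => bcat_of_isQuasicoherent A hU,
    fun h => isQuasicoherent_of_bcat A (fun U : {U : C // Aff U} => U.1) (coversTop_aff A) (fun U => h U.2)⟩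

end Main

end K186.Aff
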