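import Groth.Agent.BigSite.K186.AffFP
import Groth.Agent.Adeq.K570.Cov
import Groth.Prelude.Def_BigSite2
import Mathlib.AlgebraicGeometry.Morphisms.Flat
import Mathlib.AlgebraicGeometry.Sites.Fpqc
import Mathlib.CategoryTheory.Limits.Constructions.Over.Connected

/-!
# Quasi-coherent modules on the big sites

For a class `Q` of flat open morphisms containing the open immersions (`Gd Q`; e.g. open immersions, etale, smooth or
fppf morphisms) a module `M` on the big site of `X` is quasi-coherent iff for all affine `T' → T` over `X` the map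
`M(T) → M(T')` is a base change of modules along `Γ(T) → Γ(T')` (`isQuasicoherent_iff_big`).
-/

set_option autoImplicit false
set_option linter.unusedSectionVars false
set_option linter.style.haveILetI false

universe u

open CategoryTheory CategoryTheory.Limits Opposite AlgebraicGeometry
open Groth.Agent.Etbase.FFExact

namespace K186.Big

open K186.GenRel K186.Pres K186.BCAlg K186.Aff

/-- Flat open classes of morphisms containing the open immersions. -/
class Gd (Q : MorphismProperty Scheme.{u}) : Prop extends Q.IsMultiplicative, Q.IsStableUnderBaseChange where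
  hz : ∀ {X Y : Scheme.{u}} (f : X ⟶ Y), IsOpenImmersion f → Q f
  ho : ∀ {X Y : Scheme.{u}} (f : X ⟶ Y), Q f → IsOpenMap f
  hf : ∀ {X Y : Scheme.{u}} (f : X ⟶ Y), Q f → Flat f

instance gdZ : Gd (@IsOpenImmersion : MorphismProperty Scheme.{u}) where
  id_mem _ := inferInstance
  comp_mem _ _ _ _ := inferInstance
  hz _ h := h
  ho f _ := f.isOpenEmbedding.isOpenMap
  hf _ _ := inferInstance

/-- Flat morphisms locally of finite presentation. -/
abbrev Qf : MorphismProperty Scheme.{u} := @Flat ⊓ @LocallyOfFinitePresentation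

instance gdF : Gd Qf.{u} where
  id_mem _ := ⟨inferInstance, inferInstance⟩
  comp_mem f g hf hg := by
    have := hf.1; have := hf.2; have := hg.1; have := hg.2
    exact ⟨inferInstance, inferInstance⟩
  hz _ _ := ⟨inferInstance, inferInstance⟩
  ho _ h := by
    have := h.1; have := h.2
    exact Scheme.Hom.isOpenMap _
  hf f h := h.1

instance gdE : Gd (@Etale : MorphismProperty Scheme.{u}) where
  id_mem _ := inferInstance
  comp_mem _ _ _ _ := inferInstance
  hz _ _ := inferInstance
  ho _ h := by
    have := h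
    exact Scheme.Hom.isOpenMap _
  hf f h := by
    have := h
    infer_instance

instance gdS : Gd (@Smooth : MorphismProperty Scheme.{u}) where
  id_mem _ := inferInstance
  comp_mem _ _ _ _ := inferInstance
  hz _ _ := inferInstance
  ho _ h := by
    have := h
    exact Scheme.Hom.isOpenMap _
  hf f h := by
    have := h
    infer_instance

instance commSh (K : Precoverage Scheme.{u}) [BigSite.OSh K] (X : Scheme.{u}) : CommSh (BigSite.ORing K X) where
  comm U a b := by
    let a' : ULift.{u + 1} Γ(U.unop.left, ⊤) := a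
    let b' : ULift.{u + 1} Γ(U.unop.left, ⊤) := b
    exact mul_comm a' b'

/-- surjectivity on primes -/
theorem exists_prime {ι : Type*} {U : Scheme.{u}} [IsAffine U] {V : ι → Scheme.{u}} (f : ∀ i, V i ⟶ U)
    (h : ∀ x : U, ∃ i, x ∈ Set.range (f i)) (p : Ideal Γ(U, ⊤)) (hp : p.IsPrime) :
    ∃ (i : ι) (q : Ideal Γ(V i, ⊤)), q.IsPrime ∧ q.comap (f i).appTop.hom = p := by
  obtain ⟨x, hx⟩ := (inferInstance : Surjective U.toSpecΓ).surj (⟨p, hp⟩ : PrimeSpectrum Γ(U, ⊤))
  obtain ⟨i, y, rfl⟩ := h x
  let z : PrimeSpectrum Γ(V i, ⊤) := (V i).toSpecΓ y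
  refine ⟨i, z.asIdeal, z.isPrime, ?_⟩
  have h1 : (f i ≫ U.toSpecΓ) y = ((V i).toSpecΓ ≫ Spec.map (f i).appTop) y := by
    rw [Scheme.toSpecΓ_naturality]
  have h2 : Spec.map (f i).appTop ((V i).toSpecΓ y) = (⟨p, hp⟩ : PrimeSpectrum Γ(U, ⊤)) := by
    rw [← hx]
    exact h1.symm
  exact congrArg PrimeSpectrum.asIdeal h2

theorem jff_cover {n : ℕ} {U : Scheme.{u}} [IsAffine U] {V : Fin n → Scheme.{u}} [∀ i, IsAffine (V i)]
    (f : ∀ i, V i ⟶ U) (hf : ∀ i, Flat (f i)) (h : ∀ x : U, ∃ i, x ∈ Set.range (f i)) :
    JFF (fun i => (f i).appTop.hom) where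
  flat i := by
    have := hf i
    exact HasRingHomProperty.appTop (P := @Flat) (f i) this
  surj p hp := exists_prime f h p hp

section Site

variable (Q : MorphismProperty Scheme.{u}) [Gd Q] [BigSite.OSh (Scheme.precoverage Q)] (X : Scheme.{u})

/-- Affine objects of the big site. -/
def AffO (T : Over X) : Prop := IsAffine T.left

theorem ρ_eq {U V : Over X} (f : V ⟶ U) :
    ρ (BigSite.ORing (Scheme.precoverage Q) X) f = ulr f.left.appTop.hom := rfl

/-- The big site of a scheme has affine objects in the sense of `AffSite`. -/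
theorem affSite : AffSite (QuotSh.J (Scheme.precoverage Q) X) (BigSite.ORing (Scheme.precoverage Q) X) (AffO X) where
  pb {U V W} f g hU hV hW := by
    have h1 : IsAffine U.left := hU
    have h2 : IsAffine V.left := hV
    have h3 : IsAffine W.left := hW
    let P : Over X := Over.mk (pullback.fst f.left g.left ≫ V.hom)
    let p : P ⟶ V := Over.homMk (pullback.fst f.left g.left) rfl
    let q : P ⟶ W := Over.homMk (pullback.snd f.left g.left) (by
      change pullback.snd f.left g.left ≫ W.hom = pullback.fst f.left g.left ≫ V.hom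
      rw [← Over.w g, ← Over.w f, pullback.condition_assoc])
    have hP : IsPullback p.left q.left f.left g.left := IsPullback.of_hasPullback _ _
    refine ⟨P, p, q, ?_, ?_, ?_⟩
    · exact inferInstanceAs (IsAffine (pullback f.left g.left))
    · exact IsPullback.of_map (Over.forget X) (by ext; exact pullback.condition) hP
    · have h4 := isPushout_appTop_of_isPullback hP
      exact push_ulr (push_of_isPushout (α := f.left.appTop.hom) (φ := g.left.appTop.hom)
        (φ' := p.left.appTop.hom) (β := q.left.appTop.hom) h4)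
  cov {U} hU S hS := by
    have h1 : IsAffine U.left := hU
    obtain ⟨n, V, f, h2, h3, h4, h5⟩ := K570.Cov.exists_finite_affine Gd.hz Gd.ho U hS
    refine ⟨n, V, f, h3, h2, ?_, ?_⟩
    · refine K570.Cov.ofArrows_mem f fun x => ?_
      obtain ⟨i, hi⟩ := h5 x
      exact ⟨i, h4 i, hi⟩
    · have := h3
      exact jff_ulr (jff_cover (fun i => (f i).left) (fun i => Gd.hf _ (h4 i)) h5)
  loc U := by
    let S : Sieve U :=
      { arrows := fun V f => ∃ (W : Over X) (a : V ⟶ W) (b : W ⟶ U), AffO X W ∧ a ≫ b = f
        downward_closed := by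
          rintro V V' f ⟨W, a, b, hW, rfl⟩ g
          exact ⟨W, g ≫ a, b, hW, Category.assoc _ _ _⟩ }
    refine ⟨S, ?_, fun V f hf => hf⟩
    rw [K570.Cov.mem_J_iff]
    intro x
    obtain ⟨W, hW, hxW, -⟩ := exists_isAffineOpen_mem_and_subset (x := x) (U := ⊤) (by trivial)
    let Y : Over X := Over.mk (W.ι ≫ U.hom)
    let i : Y ⟶ U := Over.homMk W.ι rfl
    refine ⟨Y, i, ⟨Y, 𝟙 _, i, hW, Category.id_comp _⟩, Gd.hz _ (inferInstanceAs (IsOpenImmersion W.ι)), ⟨x, hxW⟩, rfl⟩

variable {X}

/-- Base change on affine objects. -/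
theorem isQuasicoherent_iff_big (M : BigSite.Mod (Scheme.precoverage Q) X) :
    M.IsQuasicoherent ↔ ∀ ⦃U : Over X⦄, IsAffine U.left → BCat M (AffO X) U :=
  isQuasicoherent_iff (M := M) (affSite Q X)

end Site

end K186.Big
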