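import Groth.Agent.BigSite.K186.Big

/-!
# Quasi-coherence of pushforwards and pullbacks of modules on big sites
-/

set_option autoImplicit false
set_option linter.unusedSectionVars false
set_option linter.style.haveILetI false

universe u

open CategoryTheory CategoryTheory.Limits Opposite AlgebraicGeometry
open Groth.Agent.Etbase.FFExact

namespace K186.Big

open K186.GenRel K186.Pres K186.BCAlg K186.Aff

variable (Q : MorphismProperty Scheme.{u}) [Gd Q] [BigSite.OSh (Scheme.precoverage Q)] {S X : Scheme.{u}}

theorem isPullback_pb {Y Z : Scheme.{u}} (g : Y ⟶ Z) {U V : Over Z} (f : V ⟶ U) :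
    IsPullback ((Over.pullback g).map f).left (pullback.fst V.hom g) (pullback.fst U.hom g) f.left := by
  refine IsPullback.of_right (h₁₂ := pullback.snd U.hom g) (v₁₃ := g) (h₂₂ := U.hom) ?_ ?_ ?_
  · have h1 : ((Over.pullback g).map f).left ≫ pullback.snd U.hom g = pullback.snd V.hom g :=
      pullback.lift_snd _ _ _
    rw [h1, Over.w f]
    exact (IsPullback.of_hasPullback V.hom g).flip
  · exact pullback.lift_fst _ _ _
  · exact (IsPullback.of_hasPullback U.hom g).flip

/-- The pushforward along an affine morphism of a quasi-coherent module on the big site is quasi-coherent. -/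
theorem isQuasicoherent_pushMod (g : X ⟶ S) [IsAffineHom g]
    (M : BigSite.Mod (Scheme.precoverage Q) X) [M.IsQuasicoherent] :
    ((BigSite.pushMod (Scheme.precoverage Q) g).obj M).IsQuasicoherent := by
  rw [isQuasicoherent_iff_big]
  have hM := (isQuasicoherent_iff_big Q M).1 inferInstance
  intro U hU V f hV
  have h1 : IsAffine U.left := hU
  have h2 : IsAffine V.left := hV
  have hU' : IsAffine ((Over.pullback g).obj U).left := inferInstanceAs (IsAffine (pullback U.hom g))
  have hV' : IsAffine ((Over.pullback g).obj V).left := inferInstanceAs (IsAffine (pullback V.hom g))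
  have h3 := hM hU' ((Over.pullback g).map f) hV'
  have h4 := isPushout_appTop_of_isPullback (isPullback_pb g f).flip
  have h5 := push_ulr (push_of_isPushout (α := (pullback.fst U.hom g).appTop.hom) (φ := f.left.appTop.hom)
    (φ' := ((Over.pullback g).map f).left.appTop.hom) (β := (pullback.fst V.hom g).appTop.hom) h4.flip)
  let R := BigSite.ORing (Scheme.precoverage Q) S
  let R' := BigSite.ORing (Scheme.precoverage Q) X
  let α : R.obj.obj (op U) →+* R'.obj.obj (op ((Over.pullback g).obj U)) := ulr (pullback.fst U.hom g).appTop.hom
  let β : R.obj.obj (op V) →+* R'.obj.obj (op ((Over.pullback g).obj V)) := ulr (pullback.fst V.hom g).appTop.hom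
  letI i1 : Module (R.obj.obj (op U)) (M.val.obj (op ((Over.pullback g).obj U))) := Module.compHom _ α
  letI i2 : Module (R.obj.obj (op V)) (M.val.obj (op ((Over.pullback g).obj V))) := Module.compHom _ β
  have h5' : Push α (ρ R f) (ρ R' ((Over.pullback g).map f)) β := h5
  have h6 := h5'.isBC (M := M.val.obj (op ((Over.pullback g).obj U)))
    (M' := M.val.obj (op ((Over.pullback g).obj V))) (fun a m => rfl) (fun b m => rfl) h3
  exact h6

end K186.Big
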