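import Mathlib.Algebra.Category.ModuleCat.Sheaf.Quasicoherent
import Mathlib.Algebra.Category.ModuleCat.Sheaf.Limits
import Mathlib.Algebra.Category.ModuleCat.Sheaf.Colimits
import Mathlib.Algebra.Category.ModuleCat.Presheaf.Submodule
import Mathlib.CategoryTheory.Sites.EpiMono
import Mathlib.Algebra.Category.Grp.EpiMono
import Mathlib.Algebra.Category.Grp.Abelian
import Mathlib.Algebra.Category.Grp.FilteredColimits
import Mathlib.Algebra.Homology.ShortComplex.ModuleCat
import Mathlib.Algebra.Homology.ShortComplex.ExactFunctor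
import Mathlib.CategoryTheory.Sites.Abelian
import Mathlib.CategoryTheory.Abelian.GrothendieckAxioms.Sheaf

/-!
# Presentations of sheaves of modules on an arbitrary (large) site, elementwise

The universe-general version of `Groth.Agent.Gaga.H976.TM0-2`, `K919.QCSite` (there: small sites).
-/

set_option autoImplicit false
set_option linter.unusedSectionVars false

universe w v₁ v₂ u₁ u₂ v₃ u₃ v₄ u₄

open CategoryTheory CategoryTheory.Limits Opposite

namespace K186.GenRel

section Reflective

variable {A : Type u₁} [Category.{v₁} A] {B : Type u₂} [Category.{v₂} B]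
  {C : Type u₃} [Category.{v₃} C]

/-- A functor out of a reflective subcategory preserves colimits of shape `J` if its composition
with the reflector does. -/
theorem preservesColimitsOfShape_of_reflective {L : A ⥤ B} {G : B ⥤ A} (adj : L ⊣ G)
    [IsIso adj.counit] (F : B ⥤ C) (J : Type u₄) [Category.{v₄} J] [HasColimitsOfShape J A]
    [PreservesColimitsOfShape J (L ⋙ F)] : PreservesColimitsOfShape J F where
  preservesColimit {K} := by
    have : PreservesColimitsOfShape J L := adj.leftAdjoint_preservesColimits.preservesColimitsOfShape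
    let e : (K ⋙ G) ⋙ L ≅ K := Functor.associator _ _ _ ≪≫
      Functor.isoWhiskerLeft K (asIso adj.counit) ≪≫ K.rightUnitor
    have : PreservesColimit ((K ⋙ G) ⋙ L) F := by
      refine preservesColimit_of_preserves_colimit_cocone
        (isColimitOfPreserves L (colimit.isColimit (K ⋙ G))) ?_
      exact isColimitOfPreserves (L ⋙ F) (colimit.isColimit (K ⋙ G))
    exact preservesColimit_of_iso_diagram F e

end Reflective

variable {C : Type u₁} [Category.{v₁} C] {J : GrothendieckTopology C} {R : Sheaf J RingCat.{w}}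

section Elem

variable [HasSheafify J AddCommGrpCat.{w}] [J.WEqualsLocallyBijective AddCommGrpCat.{w}]

variable {M N : SheafOfModules.{w} R} (f : M ⟶ N)

/-- `toSheaf` preserves epimorphisms. -/
theorem epi_toSheaf [Epi f] : Epi ((SheafOfModules.toSheaf R).map f) := by
  have : PreservesColimitsOfShape WalkingSpan (presheafToSheaf J AddCommGrpCat.{w}) :=
    (CategoryTheory.sheafificationAdjunction J
      AddCommGrpCat.{w}).leftAdjoint_preservesColimits.preservesColimitsOfShape
  have : PreservesColimitsOfShape WalkingSpan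
      (PresheafOfModules.sheafification.{w} (𝟙 R.obj) ⋙ SheafOfModules.toSheaf.{w} R) :=
    inferInstanceAs (PreservesColimitsOfShape WalkingSpan
      (PresheafOfModules.toPresheaf _ ⋙ presheafToSheaf J AddCommGrpCat.{w}))
  have : PreservesColimitsOfShape WalkingSpan (SheafOfModules.toSheaf.{w} R) :=
    preservesColimitsOfShape_of_reflective
      (PresheafOfModules.sheafificationAdjunction.{w} (𝟙 R.obj)) _ WalkingSpan
  infer_instance

theorem balanced_sheaf (J : GrothendieckTopology C) [HasSheafify J AddCommGrpCat.{w}] :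
    Balanced (Sheaf J AddCommGrpCat.{w}) :=
  inferInstance

theorem epi_iff_isLocallySurjective :
    Epi f ↔ Presheaf.IsLocallySurjective J ((PresheafOfModules.toPresheaf R.obj).map f.val) := by
  constructor
  · intro _
    have h := epi_toSheaf f
    have hb := balanced_sheaf J
    exact (Sheaf.isLocallySurjective_iff_epi' AddCommGrpCat.{w}
      ((SheafOfModules.toSheaf R).map f)).2 h
  · intro h
    have h' : Sheaf.IsLocallySurjective ((SheafOfModules.toSheaf R).map f) := h
    have : Epi ((SheafOfModules.toSheaf R).map f) :=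
      Sheaf.epi_of_isLocallySurjective _
    exact ⟨fun g h e => (SheafOfModules.toSheaf R).map_injective
      ((cancel_epi ((SheafOfModules.toSheaf R).map f)).1 (by
        rw [← Functor.map_comp, ← Functor.map_comp, e]))⟩

/-- Epimorphism iff sections lift locally. -/
theorem epi_iff : Epi f ↔ ∀ (X : C) (t : N.val.obj (op X)), ∃ S : Sieve X, S ∈ J X ∧
    ∀ ⦃Y : C⦄ (g : Y ⟶ X), S.arrows g →
      ∃ s : M.val.obj (op Y), f.val.app (op Y) s = N.val.restrictₛₗ g.op t := by
  rw [epi_iff_isLocallySurjective]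
  constructor
  · intro h X t
    exact ⟨_, h.imageSieve_mem (U := X) t, fun Y g hg => hg⟩
  · intro h
    refine ⟨fun {X} t => ?_⟩
    obtain ⟨S, hS, h⟩ := h X t
    exact J.superset_covering (fun Y g hg => h g hg) hS

/-- Monomorphism iff injective on sections. -/
theorem mono_iff : Mono f ↔ ∀ X : Cᵒᵖ, Function.Injective (f.val.app X) := by
  constructor
  · intro _ X
    have : Mono ((SheafOfModules.evaluation R X).map f) := inferInstance
    exact (ModuleCat.mono_iff_injective _).1 this
  · intro h
    have : Mono f.val := PresheafOfModules.mono_of_injective (fun X => h X)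
    exact (SheafOfModules.forget R).mono_of_mono_map this

instance evaluation_additive (X : Cᵒᵖ) : (SheafOfModules.evaluation.{w} R X).Additive where

/-- Sections killed by `f` come from the kernel. -/
theorem exists_kernel (X : Cᵒᵖ) (t : M.val.obj X) (ht : f.val.app X t = 0) :
    ∃ k : (kernel f).val.obj X, (kernel.ι f).val.app X k = t := by
  let F := SheafOfModules.evaluation R X
  have h : (ShortComplex.mk (F.map (kernel.ι f)) (F.map f)
      (by rw [← F.map_comp, kernel.condition, F.map_zero])).Exact := by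
    have h0 : (ShortComplex.mk (kernel.ι f) f (kernel.condition f)).Exact :=
      ShortComplex.exact_of_f_is_kernel _ (kernelIsKernel f)
    exact h0.map_of_mono_of_preservesKernel F inferInstance inferInstance
  exact (ShortComplex.moduleCat_exact_iff _).1 h t ht

end Elem

section Sec

/-- The value of a section at an object, as an element of the module of sections. -/
def sec {M : SheafOfModules.{w} R} (s : M.sections) (X : Cᵒᵖ) : M.val.obj X := s.1 X

lemma sec_map {M : SheafOfModules.{w} R} (s : M.sections) {X Y : Cᵒᵖ} (f : X ⟶ Y) :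
    M.val.restrictₛₗ f (sec s X) = sec s Y := s.2 f

lemma app_res {M N : SheafOfModules.{w} R} (f : M ⟶ N) {X Y : Cᵒᵖ} (g : X ⟶ Y)
    (t : M.val.obj X) : f.val.app Y (M.val.restrictₛₗ g t) = N.val.restrictₛₗ g (f.val.app X t) :=
  PresheafOfModules.naturality_apply f.val g t

lemma app_smul {M N : SheafOfModules.{w} R} (f : M ⟶ N) {X : Cᵒᵖ} (r : R.obj.obj X)
    (t : M.val.obj X) : f.val.app X (r • t) = r • (show N.val.obj X from f.val.app X t) :=
  (f.val.app X).hom.map_smul r t

lemma app_sum {M N : SheafOfModules.{w} R} (f : M ⟶ N) {X : Cᵒᵖ} {ι : Type*} (s : Finset ι)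
    (t : ι → M.val.obj X) : f.val.app X (∑ i ∈ s, t i) = ∑ i ∈ s, (show N.val.obj X from f.val.app X (t i)) :=
  map_sum (f.val.app X).hom t s

end Sec

/-- linear combinations of the values of a family of sections -/
noncomputable def lc {M : SheafOfModules.{w} R} {I : Type w} (s : I → M.sections) (X : C)
    (c : I →₀ R.obj.obj (op X)) : M.val.obj (op X) :=
  Finsupp.linearCombination (R.obj.obj (op X)) (fun j => sec (s j) (op X)) c

lemma lc_eq {M : SheafOfModules.{w} R} {I : Type w} (s : I → M.sections) (X : C)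
    (c : I →₀ R.obj.obj (op X)) : lc s X c = c.sum fun j a => a • sec (s j) (op X) := rfl

/-- The sections `s i` generate `M` locally. -/
def Gen {M : SheafOfModules.{w} R} {I : Type w} (s : I → M.sections) : Prop :=
  ∀ (X : C) (t : M.val.obj (op X)), ∃ S : Sieve X, S ∈ J X ∧
    ∀ ⦃Y : C⦄ (g : Y ⟶ X), S.arrows g →
      ∃ c : I →₀ R.obj.obj (op Y), M.val.restrictₛₗ g.op t = lc s Y c

/-- Restriction of coefficients. -/
noncomputable def rc {I : Type w} {X Y : C} (g : Y ⟶ X) (c : I →₀ R.obj.obj (op X)) :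
    I →₀ R.obj.obj (op Y) := c.mapRange (R.obj.map g.op).hom (map_zero _)

lemma rc_apply {I : Type w} {X Y : C} (g : Y ⟶ X) (c : I →₀ R.obj.obj (op X)) (i : I) :
    rc g c i = R.obj.map g.op (c i) := rfl

lemma lc_rc {M : SheafOfModules.{w} R} {I : Type w} (s : I → M.sections) {X Y : C} (g : Y ⟶ X)
    (c : I →₀ R.obj.obj (op X)) : lc s Y (rc g c) = M.val.restrictₛₗ g.op (lc s X c) := by
  rw [lc_eq, lc_eq, rc]
  refine (Finsupp.sum_mapRange_index (fun j => zero_smul _ (sec (s j) (op Y)))).trans ?_
  rw [Finsupp.sum, Finsupp.sum, map_sum]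
  refine Finset.sum_congr rfl fun j _ => ?_
  rw [map_smulₛₗ, sec_map]

section Sub

variable {M : SheafOfModules.{w} R} {I : Type w} (s : I → M.sections)

/-- The sections which are locally linear combinations of the `s i`. -/
def genSub : M.val.Submodule where
  obj X :=
    { carrier := {t | ∃ S : Sieve X.unop, S ∈ J X.unop ∧ ∀ ⦃Y : C⦄ (g : Y ⟶ X.unop), S.arrows g →
        ∃ c : I →₀ R.obj.obj (op Y), M.val.restrictₛₗ g.op t = lc s Y c}
      zero_mem' := ⟨⊤, J.top_mem _, fun Y g _ => ⟨0, by
        rw [map_zero]; exact (Finsupp.linearCombination (R.obj.obj (op Y)) _).map_zero.symm⟩⟩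
      add_mem' := by
        rintro a b ⟨S, hS, h⟩ ⟨S', hS', h'⟩
        refine ⟨S ⊓ S', J.intersection_covering hS hS', fun Y g hg => ?_⟩
        obtain ⟨c, hc⟩ := h g hg.1
        obtain ⟨c', hc'⟩ := h' g hg.2
        refine ⟨c + c', ?_⟩
        rw [map_add, hc, hc']
        exact ((Finsupp.linearCombination (R.obj.obj (op Y)) _).map_add c c').symm
      smul_mem' := by
        rintro r a ⟨S, hS, h⟩
        refine ⟨S, hS, fun Y g hg => ?_⟩
        obtain ⟨c, hc⟩ := h g hg
        refine ⟨(R.obj.map g.op).hom r • c, ?_⟩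
        rw [map_smulₛₗ, hc]
        exact ((Finsupp.linearCombination (R.obj.obj (op Y)) _).map_smul _ c).symm }
  map {X Y} f := by
    rintro t ⟨S, hS, h⟩
    refine ⟨S.pullback f.unop, J.pullback_stable f.unop hS, fun Z g hg => ?_⟩
    obtain ⟨c, hc⟩ := h (g ≫ f.unop) hg
    refine ⟨c, ?_⟩
    rw [← hc]
    exact (M.val.map_comp_apply f g.op t).symm

lemma mem_genSub {X : Cᵒᵖ} (t : M.val.obj X) : t ∈ (genSub s).obj X ↔
    ∃ S : Sieve X.unop, S ∈ J X.unop ∧ ∀ ⦃Y : C⦄ (g : Y ⟶ X.unop), S.arrows g →
        ∃ c : I →₀ R.obj.obj (op Y), M.val.restrictₛₗ g.op t = lc s Y c := Iff.rfl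

lemma genSub_local {X : Cᵒᵖ} (t : M.val.obj X) (S : Sieve X.unop) (hS : S ∈ J X.unop)
    (h : ∀ ⦃Y : C⦄ (g : Y ⟶ X.unop), S.arrows g → M.val.restrictₛₗ g.op t ∈ (genSub s).obj (op Y)) :
    t ∈ (genSub s).obj X := by
  rw [mem_genSub]
  choose! S' hS' hc using h
  refine ⟨Sieve.bind S.arrows (fun Y g _ => S' g), J.bind_covering hS (fun Y g hg => hS' g hg), ?_⟩
  rintro Z f ⟨Y, g, k, hk, hg, rfl⟩
  obtain ⟨c, hc⟩ := hc k hk g hg
  refine ⟨c, ?_⟩
  rw [← hc]
  exact M.val.map_comp_apply k.op g.op t

/-- Sheaves of abelian groups on `C` have sheaves of sets as underlying presheaves. -/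
theorem isSheaf_type {F : Cᵒᵖ ⥤ AddCommGrpCat.{w}} (hF : Presheaf.IsSheaf J F) :
    Presieve.IsSheaf J (F ⋙ forget AddCommGrpCat.{w}) := by
  rw [← isSheaf_iff_isSheaf_of_type]
  exact Presheaf.isSheaf_comp_of_isSheaf J F (forget AddCommGrpCat.{w}) hF

/-- A subpresheaf of abelian groups which is locally determined is a sheaf. -/
theorem isSheaf_of_local {F G : Cᵒᵖ ⥤ AddCommGrpCat.{w}} (hG : Presheaf.IsSheaf J G) (ι : F ⟶ G)
    (hi : ∀ Y, Function.Injective (ι.app Y))
    (hl : ∀ (X : C) (S : Sieve X) (_ : S ∈ J X) (t : G.obj (op X)),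
      (∀ ⦃Y : C⦄ (g : Y ⟶ X), S.arrows g → ∃ a : F.obj (op Y), ι.app (op Y) a = G.map g.op t) →
      ∃ a : F.obj (op X), ι.app (op X) a = t) : Presheaf.IsSheaf J F := by
  intro E X S hS x hx
  have hM := hG E S hS
  have hnat : ∀ {Y Z : C} (g : Z ⟶ Y) (k : E ⟶ F.obj (op Y)),
      (k ≫ ι.app (op Y)) ≫ G.map g.op = (k ≫ F.map g.op) ≫ ι.app (op Z) := by
    intro Y Z g k
    rw [Category.assoc, Category.assoc, ι.naturality]
  let x' : ∀ (Y : C) (f : Y ⟶ X), S.arrows f → (E ⟶ F.obj (op Y)) := fun Y f hf => x f hf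
  let y : Presieve.FamilyOfElements (G ⋙ coyoneda.obj (op E)) S.arrows :=
    fun Y f hf => x' Y f hf ≫ ι.app (op Y)
  have hy : y.Compatible := by
    intro Y₁ Y₂ Z g₁ g₂ f₁ f₂ h₁ h₂ e
    have h : x' Y₁ f₁ h₁ ≫ F.map g₁.op = x' Y₂ f₂ h₂ ≫ F.map g₂.op := hx g₁ g₂ h₁ h₂ e
    exact (hnat g₁ _).trans ((congrArg (fun k => k ≫ ι.app (op Z)) h).trans (hnat g₂ _).symm)
  obtain ⟨t0, ht0, htu⟩ := hM y hy
  let t : E ⟶ G.obj (op X) := t0
  have ht : ∀ (Y : C) (f : Y ⟶ X) (hf : S.arrows f), t ≫ G.map f.op = x' Y f hf ≫ ι.app (op Y) :=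
    fun Y f hf => ht0 f hf
  have hmem : ∀ e : E, ∃ a : F.obj (op X), ι.app (op X) a = t e := by
    intro e
    refine hl X S hS _ fun Y g hg => ⟨x' Y g hg e, ?_⟩
    exact (congrArg (fun k : E ⟶ G.obj (op Y) => k e) (ht Y g hg)).symm
  choose a ha using hmem
  let t' : E ⟶ F.obj (op X) :=
    AddCommGrpCat.ofHom
      { toFun := a
        map_zero' := hi _ ((ha 0).trans ((map_zero t.hom).trans (map_zero (ι.app (op X)).hom).symm))
        map_add' := fun e e' => hi _ ((ha (e + e')).trans ((map_add t.hom e e').trans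
          ((congrArg₂ (· + ·) (ha e) (ha e')).symm.trans (map_add (ι.app (op X)).hom _ _).symm))) }
  have ht' : t' ≫ ι.app (op X) = t := by
    ext e
    exact ha e
  have hcancel : ∀ {Y : C} (k k' : E ⟶ F.obj (op Y)), k ≫ ι.app (op Y) = k' ≫ ι.app (op Y) → k = k' := by
    intro Y k k' hk
    ext e
    exact hi _ (congrArg (fun k : E ⟶ G.obj (op Y) => k e) hk)
  refine ⟨t', ?_, ?_⟩
  · intro Y f hf
    change t' ≫ F.map f.op = x' Y f hf
    apply hcancel
    rw [← hnat, ht', ht]
  · intro r hr
    let r' : E ⟶ F.obj (op X) := r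
    change r' = t'
    apply hcancel
    rw [ht']
    apply htu
    intro Y f hf
    have h2 : r' ≫ F.map f.op = x' Y f hf := hr f hf
    exact (hnat f r').trans (congrArg (fun k => k ≫ ι.app (op Y)) h2)

/-- The subsheaf of modules generated by the `s i`. -/
noncomputable def genSheaf : SheafOfModules.{w} R where
  val := (genSub s).toPresheafOfModules
  isSheaf := by
    refine isSheaf_of_local M.isSheaf ((PresheafOfModules.toPresheaf R.obj).map (genSub s).ι)
      (fun Y a b hab => Subtype.ext hab) ?_
    intro X S hS t ht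
    refine ⟨⟨t, genSub_local s t S hS fun Y g hg => ?_⟩, rfl⟩
    obtain ⟨a, ha⟩ := ht g hg
    have h2 : M.val.restrictₛₗ g.op t = (show (genSub s).obj (op Y) from a).1 := ha.symm
    rw [h2]
    exact (show (genSub s).obj (op Y) from a).2

/-- The inclusion of the subsheaf generated. -/
noncomputable def genι : genSheaf s ⟶ M := ⟨(genSub s).ι⟩

lemma genι_apply {X : Cᵒᵖ} (t : (genSheaf s).val.obj X) :
    (genι s).val.app X t = (show (genSub s).obj X from t).1 := rfl

lemma sec_mem (j : I) (X : Cᵒᵖ) : sec (s j) X ∈ (genSub s).obj X := by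
  rw [mem_genSub]
  refine ⟨⊤, J.top_mem _, fun Y g _ => ⟨Finsupp.single j 1, ?_⟩⟩
  rw [sec_map]
  refine Eq.symm ((Finsupp.linearCombination_single _ _ _).trans ?_)
  exact one_smul _ _

/-- The `s i` as sections of the subsheaf. -/
noncomputable def genSec (j : I) : (genSheaf s).sections :=
  ⟨fun X => ⟨sec (s j) X, sec_mem s j X⟩, fun {_ _} f => Subtype.ext (sec_map (s j) f)⟩

end Sub

variable [HasSheafify J AddCommGrpCat.{w}] [J.WEqualsLocallyBijective AddCommGrpCat.{w}]
  [J.HasSheafCompose (forget₂ RingCat.{w} AddCommGrpCat.{w})]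

/-- The standard sections generate the free sheaf of modules. -/
theorem gen_free (I : Type w) : Gen (fun j : I => SheafOfModules.freeSection (R := R) j) := by
  intro X t
  let s : I → (SheafOfModules.free (R := R) I).sections := fun j => SheafOfModules.freeSection j
  let r : SheafOfModules.free (R := R) I ⟶ genSheaf s := (genSheaf s).freeHomEquiv.symm (genSec s)
  have h : r ≫ genι s = 𝟙 _ := by
    apply (SheafOfModules.free (R := R) I).freeHomEquiv.injective
    funext j
    rw [SheafOfModules.freeHomEquiv_comp_apply]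
    simp only [r, Equiv.apply_symm_apply]
    rfl
  have h2 : (genι s).val.app (op X) (r.val.app (op X) t) = t :=
    congrArg (fun φ : SheafOfModules.free (R := R) I ⟶ _ => φ.val.app (op X) t) h
  rw [← h2]
  exact (mem_genSub s _).1 (show (genSub s).obj (op X) from r.val.app (op X) t).2

omit [HasSheafify J AddCommGrpCat.{w}] [J.WEqualsLocallyBijective AddCommGrpCat.{w}]
  [J.HasSheafCompose (forget₂ RingCat.{w} AddCommGrpCat.{w})] in
lemma map_lc {M N : SheafOfModules.{w} R} (f : M ⟶ N) {I : Type w} (s : I → M.sections) (X : C)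
    (c : I →₀ R.obj.obj (op X)) :
    f.val.app (op X) (lc s X c) = lc (fun j => SheafOfModules.sectionsMap f (s j)) X c := by
  rw [lc_eq, lc_eq, Finsupp.sum, map_sum]
  refine Finset.sum_congr rfl fun j _ => ?_
  exact (f.val.app (op X)).hom.map_smul _ _

lemma map_lc_free {M : SheafOfModules.{w} R} {I : Type w} (s : I → M.sections) (X : C)
    (c : I →₀ R.obj.obj (op X)) :
    (M.freeHomEquiv.symm s).val.app (op X) (lc (fun j : I => SheafOfModules.freeSection (R := R) j) X c) =
      lc s X c := by
  rw [map_lc]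
  congr 1
  funext j
  exact congrFun (M.freeHomEquiv.apply_symm_apply s) j

theorem epi_iff_gen {M : SheafOfModules.{w} R} {I : Type w} (s : I → M.sections) :
    Epi (M.freeHomEquiv.symm s) ↔ Gen s := by
  rw [epi_iff]
  constructor
  · intro h X t
    obtain ⟨S, hS, h⟩ := h X t
    have h' : ∀ ⦃Y : C⦄ (g : Y ⟶ X), S.arrows g → ∃ S' : Sieve Y, S' ∈ J Y ∧
        ∀ ⦃Z : C⦄ (k : Z ⟶ Y), S'.arrows k →
          ∃ c : I →₀ R.obj.obj (op Z), M.val.restrictₛₗ (k ≫ g).op t = lc s Z c := by
      intro Y g hg
      obtain ⟨a, ha⟩ := h g hg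
      obtain ⟨S', hS', hc⟩ := gen_free (R := R) I Y a
      refine ⟨S', hS', fun Z k hk => ?_⟩
      obtain ⟨c, hc⟩ := hc k hk
      refine ⟨c, ?_⟩
      rw [← map_lc_free, ← hc, app_res, ha]
      exact M.val.map_comp_apply g.op k.op t
    choose! S' hS' hc using h'
    refine ⟨Sieve.bind S.arrows (fun Y g _ => S' g), J.bind_covering hS (fun Y g hg => hS' g hg), ?_⟩
    rintro Z f ⟨Y, g, k, hk, hg, rfl⟩
    exact hc k hk g hg
  · intro h X t
    obtain ⟨S, hS, h⟩ := h X t
    refine ⟨S, hS, fun Y g hg => ?_⟩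
    obtain ⟨c, hc⟩ := h g hg
    exact ⟨_, (map_lc_free s Y c).trans hc.symm⟩

section Co

variable (R) in
/-- The coordinate map `R^I → R`. -/
noncomputable def coord {I : Type w} [DecidableEq I] (j : I) :
    SheafOfModules.free (R := R) I ⟶ SheafOfModules.unit R :=
  Cofan.IsColimit.desc (SheafOfModules.isColimitFreeCofan I)
    (fun i => if i = j then 𝟙 _ else 0)

lemma ιFree_coord {I : Type w} [DecidableEq I] (i j : I) :
    SheafOfModules.ιFree (R := R) i ≫ coord R j = if i = j then 𝟙 _ else 0 :=
  Cofan.IsColimit.fac (SheafOfModules.isColimitFreeCofan I) _ _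

/-- coordinates of an element of a free module -/
noncomputable def co {I : Type w} [DecidableEq I] {X : Cᵒᵖ}
    (t : (SheafOfModules.free (R := R) I).val.obj X) (j : I) : R.obj.obj X :=
  (coord R j).val.app X t

lemma co_map {I : Type w} [DecidableEq I] {X Y : Cᵒᵖ} (g : X ⟶ Y)
    (t : (SheafOfModules.free (R := R) I).val.obj X) (j : I) :
    co ((SheafOfModules.free (R := R) I).val.restrictₛₗ g t) j = R.obj.map g (co t j) :=
  PresheafOfModules.naturality_apply (coord R j).val g t

open Classical in
lemma co_lc {I : Type w} (X : C) (c : I →₀ R.obj.obj (op X)) (i : I) :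
    co (lc (fun j : I => SheafOfModules.freeSection (R := R) j) X c) i = c i := by
  unfold co
  rw [map_lc, lc_eq, Finsupp.sum]
  have h : ∀ j : I, c j • sec (SheafOfModules.sectionsMap (coord R i) (SheafOfModules.freeSection j)) (op X) =
      if j = i then (show (SheafOfModules.unit R).val.obj (op X) from c j) else 0 := by
    intro j
    have h2 : SheafOfModules.sectionsMap (coord R i) (SheafOfModules.freeSection j) =
      (SheafOfModules.unit R).unitHomEquiv (SheafOfModules.ιFree j ≫ coord R i) := rfl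
    rw [h2, ιFree_coord]
    split_ifs with hj
    · exact mul_one (c j)
    · exact mul_zero (c j)
  refine (Finset.sum_congr rfl fun j _ => h j).trans ?_
  refine (Finset.sum_ite_eq' c.support i _).trans ?_
  split_ifs with hi
  · rfl
  · exact (Finsupp.notMem_support_iff.1 hi).symm

open Classical in
/-- An element of `R^(I)(X)` is determined by its coordinates. -/
lemma ext_co {I : Type w} {X : C} (t t' : (SheafOfModules.free (R := R) I).val.obj (op X))
    (h : ∀ i, co t i = co t' i) : t = t' := by
  have hM := isSheaf_type (SheafOfModules.free (R := R) I).isSheaf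
  obtain ⟨S, hS, h1⟩ := gen_free (R := R) I X (t - t')
  refine (hM.isSeparated S hS).ext fun Y g hg => ?_
  obtain ⟨c, hc⟩ := h1 g hg
  have hc0 : c = 0 := by
    ext i
    rw [← co_lc Y c i, ← hc, co_map]
    have h3 : co (t - t') i = 0 := by
      have := ((coord R i).val.app (op X)).hom.map_sub t t'
      refine this.trans ?_
      exact sub_eq_zero.2 (h i)
    rw [h3, map_zero]
    rfl
  rw [hc0] at hc
  have h4 : (SheafOfModules.free (R := R) I).val.restrictₛₗ g.op (t - t') = 0 :=
    hc.trans (Finsupp.linearCombination (R.obj.obj (op Y)) _).map_zero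
  rw [map_sub, sub_eq_zero] at h4
  exact h4

end Co

/-- The sections `q k` of `R^(I)` are relations between the `s i` and generate all relations locally. -/
def Rel {M : SheafOfModules.{w} R} {I K : Type w} (s : I → M.sections)
    (q : K → (SheafOfModules.free (R := R) I).sections) : Prop :=
  (∀ (k : K) (X : Cᵒᵖ), (M.freeHomEquiv.symm s).val.app X (sec (q k) X) = 0) ∧
  ∀ (X : C) (c : I →₀ R.obj.obj (op X)), lc s X c = 0 →
    ∃ S : Sieve X, S ∈ J X ∧ ∀ ⦃Y : C⦄ (g : Y ⟶ X), S.arrows g →
      ∃ d : K →₀ R.obj.obj (op Y),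
        lc (fun j : I => SheafOfModules.freeSection (R := R) j) Y (rc g c) = lc q Y d

theorem exists_rel {M : SheafOfModules.{w} R} (P : M.Presentation) :
    ∃ q : P.relations.I → (SheafOfModules.free (R := R) P.generators.I).sections, Rel P.generators.s q := by
  refine ⟨fun k => SheafOfModules.sectionsMap (kernel.ι P.generators.π) (P.relations.s k), ?_, ?_⟩
  · intro k X
    have h2 : P.generators.π.val.app X (sec (SheafOfModules.sectionsMap (kernel.ι P.generators.π)
        (P.relations.s k)) X) =
        (kernel.ι P.generators.π ≫ P.generators.π).val.app X (sec (P.relations.s k) X) := rfl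
    refine h2.trans ?_
    rw [kernel.condition]
    rfl
  · intro X c hc
    obtain ⟨k0, hk0⟩ := exists_kernel P.generators.π (op X)
      (lc (fun j => SheafOfModules.freeSection (R := R) j) X c) ((map_lc_free _ _ _).trans hc)
    obtain ⟨S, hS, h⟩ := (epi_iff_gen _).1 P.relations.epi X k0
    refine ⟨S, hS, fun Y g hg => ?_⟩
    obtain ⟨d, hd⟩ := h g hg
    refine ⟨d, ?_⟩
    rw [lc_rc, ← hk0, ← app_res, hd]
    exact map_lc _ _ _ _

/-- A morphism from the free module is determined by, and maps sections according to, its values. -/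
theorem presentation_of_gen_rel {M : SheafOfModules.{w} R} {I K : Type w}
    (s : I → M.sections) (q : K → (SheafOfModules.free (R := R) I).sections) (hs : Gen s) (hr : Rel s q) :
    Nonempty M.Presentation := by
  have hepi : Epi (M.freeHomEquiv.symm s) := (epi_iff_gen s).2 hs
  let σ : M.GeneratingSections := ⟨I, s, hepi⟩
  have hπ : ∀ k, (SheafOfModules.free (R := R) I).unitHomEquiv.symm (q k) ≫ σ.π = 0 := by
    intro k
    apply M.unitHomEquiv.injective
    apply Subtype.ext
    funext X
    have h1 : (M.unitHomEquiv ((SheafOfModules.free (R := R) I).unitHomEquiv.symm (q k) ≫ σ.π)) =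
      SheafOfModules.sectionsMap σ.π (q k) := by
      rw [SheafOfModules.unitHomEquiv_comp_apply, Equiv.apply_symm_apply]
    rw [h1]
    exact hr.1 k X
  let q' : K → (kernel σ.π).sections :=
    fun k => (kernel σ.π).unitHomEquiv (kernel.lift σ.π _ (hπ k))
  have hq : ∀ k, SheafOfModules.sectionsMap (kernel.ι σ.π) (q' k) = q k := by
    intro k
    have h : kernel.lift σ.π _ (hπ k) ≫ kernel.ι σ.π =
      (SheafOfModules.free (R := R) I).unitHomEquiv.symm (q k) := kernel.lift_ι _ _ _
    rw [← SheafOfModules.unitHomEquiv_comp_apply, h, Equiv.apply_symm_apply]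
  have hgen : Gen q' := by
    intro X t
    obtain ⟨S, hS, h⟩ := gen_free (R := R) I X ((kernel.ι σ.π).val.app (op X) t)
    have h' : ∀ ⦃Y : C⦄ (g : Y ⟶ X), S.arrows g → ∃ S' : Sieve Y, S' ∈ J Y ∧
        ∀ ⦃Z : C⦄ (k : Z ⟶ Y), S'.arrows k →
          ∃ d : K →₀ R.obj.obj (op Z), (kernel σ.π).val.restrictₛₗ (k ≫ g).op t = lc q' Z d := by
      intro Y g hg
      obtain ⟨c, hc⟩ := h g hg
      have h0 : lc s Y c = 0 := by
        rw [← map_lc_free, ← hc, app_res]
        have h2 : σ.π.val.app (op X) ((kernel.ι σ.π).val.app (op X) t) =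
          (kernel.ι σ.π ≫ σ.π).val.app (op X) t := rfl
        have h3 : (M.freeHomEquiv.symm s).val.app (op X) ((kernel.ι σ.π).val.app (op X) t) = 0 := by
          refine h2.trans ?_
          rw [kernel.condition]
          rfl
        rw [h3, map_zero]
      obtain ⟨S', hS', hd⟩ := hr.2 Y c h0
      refine ⟨S', hS', fun Z k hk => ?_⟩
      obtain ⟨d, hd⟩ := hd k hk
      refine ⟨d, ?_⟩
      have hmono : Function.Injective ((kernel.ι σ.π).val.app (op Z)) :=
        (mono_iff (kernel.ι σ.π)).1 inferInstance (op Z)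
      apply hmono
      rw [app_res, map_lc]
      have h4 : (SheafOfModules.free (R := R) I).val.restrictₛₗ (k ≫ g).op
          ((kernel.ι σ.π).val.app (op X) t) = (SheafOfModules.free (R := R) I).val.restrictₛₗ k.op
          ((SheafOfModules.free (R := R) I).val.restrictₛₗ g.op ((kernel.ι σ.π).val.app (op X) t)) :=
        (SheafOfModules.free (R := R) I).val.map_comp_apply g.op k.op _
      refine h4.trans ?_
      rw [hc, ← lc_rc, hd]
      congr 1
      funext k
      exact (hq k).symm
    choose! S' hS' hc using h'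
    refine ⟨Sieve.bind S.arrows (fun Y g _ => S' g), J.bind_covering hS (fun Y g hg => hS' g hg), ?_⟩
    rintro Z f ⟨Y, g, k, hk, hg, rfl⟩
    exact hc k hk g hg
  exact ⟨⟨σ, ⟨K, q', (epi_iff_gen q').2 hgen⟩⟩⟩

end K186.GenRel
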