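import Groth.Agent.BigSite.K186.GenRel

/-!
# Module structures on abelian sheaves given on affine objects

An abelian sheaf `F` on a site with sheaf of rings `R` whose sections over the objects of a class `Aff` which locally
dominates all objects are modules over the sections of `R`, compatibly with restriction, is a sheaf of modules
(`AffMod.mod`).
-/

set_option autoImplicit false
set_option linter.unusedSectionVars false

universe w v₁ u₁

open CategoryTheory CategoryTheory.Limits Opposite

namespace K186.ModExt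

open K186.GenRel

variable {C : Type u₁} [Category.{v₁} C] {J : GrothendieckTopology C} (R : Sheaf J RingCat.{w})
  (F : Cᵒᵖ ⥤ AddCommGrpCat.{w}) (Aff : C → Prop)

/-- module structures over affine objects -/
structure AffMod where
  hF : Presheaf.IsSheaf J F
  loc : ∀ U : C, ∃ S : Sieve U, S ∈ J U ∧ ∀ ⦃V : C⦄ (f : V ⟶ U), S f →
    ∃ (W : C) (a : V ⟶ W) (b : W ⟶ U), Aff W ∧ a ≫ b = f
  /-- scalar multiplication -/
  sm : ∀ {U : C}, Aff U → R.obj.obj (op U) → F.obj (op U) → F.obj (op U)
  sm_add : ∀ {U : C} (hU : Aff U) (a : R.obj.obj (op U)) (m n : F.obj (op U)), sm hU a (m + n) = sm hU a m + sm hU a n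
  add_sm : ∀ {U : C} (hU : Aff U) (a b : R.obj.obj (op U)) (m : F.obj (op U)), sm hU (a + b) m = sm hU a m + sm hU b m
  one_sm : ∀ {U : C} (hU : Aff U) (m : F.obj (op U)), sm hU 1 m = m
  mul_sm : ∀ {U : C} (hU : Aff U) (a b : R.obj.obj (op U)) (m : F.obj (op U)), sm hU (a * b) m = sm hU a (sm hU b m)
  nat : ∀ {U V : C} (hU : Aff U) (hV : Aff V) (f : V ⟶ U) (a : R.obj.obj (op U)) (m : F.obj (op U)),
    F.map f.op (sm hU a m) = sm hV (R.obj.map f.op a) (F.map f.op m)

variable {R F Aff} (D : AffMod R F Aff)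

namespace AffMod

/-- affine objects over `U` -/
abbrev Ix (Aff : C → Prop) (U : C) := Σ W : {W : C // Aff W}, (W.1 ⟶ U)

include D in
lemma cover (U : C) : Sieve.generate (Presieve.ofArrows (fun i : Ix Aff U => i.1.1) (fun i => i.2)) ∈ J U := by
  obtain ⟨S, hS, h⟩ := D.loc U
  refine J.superset_covering ?_ hS
  intro V f hf
  obtain ⟨W, a, b, hW, rfl⟩ := h f hf
  exact ⟨W, a, b, Presieve.ofArrows.mk (⟨⟨W, hW⟩, b⟩ : Ix Aff U), rfl⟩

include D in
lemma ext_aff {U : C} (x y : F.obj (op U)) (h : ∀ {W : C} (_ : Aff W) (f : W ⟶ U), F.map f.op x = F.map f.op y) :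
    x = y := by
  have h1 := (isSheaf_type D.hF) _ (D.cover U)
  rw [← Presieve.isSheafFor_iff_generate] at h1
  refine h1.isSeparatedFor.ext ?_
  rintro _ _ ⟨i⟩
  exact h i.1.2 i.2

lemma map_map {U V W : C} (f : V ⟶ U) (g : W ⟶ V) (m : F.obj (op U)) :
    F.map g.op (F.map f.op m) = F.map (g ≫ f).op m := by
  rw [op_comp, Functor.map_comp]
  rfl

lemma map_mapR {U V W : C} (f : V ⟶ U) (g : W ⟶ V) (a : R.obj.obj (op U)) :
    R.obj.map g.op (R.obj.map f.op a) = R.obj.map (g ≫ f).op a := by
  rw [op_comp, Functor.map_comp]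
  rfl

theorem exists_smul {U : C} (a : R.obj.obj (op U)) (m : F.obj (op U)) :
    ∃ n : F.obj (op U), ∀ {W : C} (hW : Aff W) (f : W ⟶ U),
      F.map f.op n = D.sm hW (R.obj.map f.op a) (F.map f.op m) := by
  have h1 := (isSheaf_type D.hF) _ (D.cover U)
  rw [← Presieve.isSheafFor_iff_generate, Presieve.isSheafFor_arrows_iff] at h1
  obtain ⟨n, hn, -⟩ := h1 (fun i => D.sm i.1.2 (R.obj.map i.2.op a) (F.map i.2.op m)) (by
    intro i j Z gi gj hij
    change F.map gi.op (D.sm i.1.2 (R.obj.map i.2.op a) (F.map i.2.op m)) =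
      F.map gj.op (D.sm j.1.2 (R.obj.map j.2.op a) (F.map j.2.op m))
    refine D.ext_aff _ _ fun {W} hW k => ?_
    rw [map_map, map_map, D.nat i.1.2 hW, D.nat j.1.2 hW, map_map, map_map, map_mapR, map_mapR,
      Category.assoc, Category.assoc, hij])
  exact ⟨n, fun {W} hW f => hn ⟨⟨W, hW⟩, f⟩⟩

/-- scalar multiplication over all objects -/
noncomputable def smul {U : C} (a : R.obj.obj (op U)) (m : F.obj (op U)) : F.obj (op U) := (D.exists_smul a m).choose

lemma smul_map {U : C} (a : R.obj.obj (op U)) (m : F.obj (op U)) {W : C} (hW : Aff W) (f : W ⟶ U) :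
    F.map f.op (D.smul a m) = D.sm hW (R.obj.map f.op a) (F.map f.op m) := (D.exists_smul a m).choose_spec hW f

lemma smul_aff {U : C} (hU : Aff U) (a : R.obj.obj (op U)) (m : F.obj (op U)) : D.smul a m = D.sm hU a m := by
  have h := D.smul_map a m hU (𝟙 U)
  rw [op_id, CategoryTheory.Functor.map_id, CategoryTheory.Functor.map_id] at h
  exact h

lemma smul_nat {U V : C} (f : V ⟶ U) (a : R.obj.obj (op U)) (m : F.obj (op U)) :
    F.map f.op (D.smul a m) = D.smul (R.obj.map f.op a) (F.map f.op m) := by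
  refine D.ext_aff _ _ fun {W} hW k => ?_
  rw [map_map, D.smul_map _ _ hW, D.smul_map _ _ hW, map_map, map_mapR]

/-- the module structure on sections -/
noncomputable abbrev inst (U : Cᵒᵖ) : Module (R.obj.obj U) (F.obj U) where
  smul a m := D.smul (U := U.unop) a m
  one_smul m := by
    refine D.ext_aff (U := U.unop) _ _ fun {W} hW k => ?_
    refine (D.smul_map _ _ hW k).trans ?_
    have h : R.obj.map k.op (1 : R.obj.obj U) = 1 := map_one _
    rw [h, D.one_sm]
  mul_smul a b m := by
    refine D.ext_aff (U := U.unop) _ _ fun {W} hW k => ?_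
    refine (D.smul_map _ _ hW k).trans ?_
    have h : R.obj.map k.op (a * b : R.obj.obj U) = R.obj.map k.op a * R.obj.map k.op b := map_mul _ _ _
    rw [h, D.mul_sm]
    refine Eq.symm ((D.smul_map _ _ hW k).trans ?_)
    exact congrArg (D.sm hW _) (D.smul_map _ _ hW k)
  smul_zero a := by
    refine D.ext_aff (U := U.unop) _ _ fun {W} hW k => ?_
    refine (D.smul_map _ _ hW k).trans ?_
    have h : F.map k.op (0 : F.obj U) = 0 := map_zero _
    rw [h]
    have h2 := D.sm_add hW (R.obj.map k.op a) 0 0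
    rw [add_zero] at h2
    exact left_eq_add.1 h2
  smul_add a m n := by
    refine D.ext_aff (U := U.unop) _ _ fun {W} hW k => ?_
    refine (D.smul_map _ _ hW k).trans ?_
    have h : F.map k.op (m + n : F.obj U) = F.map k.op m + F.map k.op n := map_add _ _ _
    rw [h, D.sm_add]
    refine Eq.symm ((map_add (F.map k.op).hom _ _).trans ?_)
    exact congrArg₂ (· + ·) (D.smul_map _ _ hW k) (D.smul_map _ _ hW k)
  add_smul a b m := by
    refine D.ext_aff (U := U.unop) _ _ fun {W} hW k => ?_
    refine (D.smul_map _ _ hW k).trans ?_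
    have h : R.obj.map k.op (a + b : R.obj.obj U) = R.obj.map k.op a + R.obj.map k.op b := map_add _ _ _
    rw [h, D.add_sm]
    refine Eq.symm ((map_add (F.map k.op).hom _ _).trans ?_)
    exact congrArg₂ (· + ·) (D.smul_map _ _ hW k) (D.smul_map _ _ hW k)
  zero_smul m := by
    refine D.ext_aff (U := U.unop) _ _ fun {W} hW k => ?_
    refine (D.smul_map _ _ hW k).trans ?_
    have h : R.obj.map k.op (0 : R.obj.obj U) = 0 := map_zero _
    have h3 : F.map k.op (0 : F.obj U) = 0 := map_zero _
    rw [h]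
    have h2 := D.add_sm hW 0 0 (F.map k.op m)
    rw [add_zero] at h2
    exact (left_eq_add.1 h2).trans h3.symm

/-- The sheaf of modules. -/
noncomputable def mod : SheafOfModules.{w} R where
  val := letI := D.inst
    PresheafOfModules.ofPresheaf F fun U V f a m => D.smul_nat (U := U.unop) (V := V.unop) f.unop a m
  isSheaf := D.hF

lemma mod_smul {U : C} (a : R.obj.obj (op U)) (m : D.mod.val.obj (op U)) :
    (a • m : D.mod.val.obj (op U)) = D.smul (U := U) a m := rfl

end AffMod

end K186.ModExt
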