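import Groth.Agent.BigSite.K186.GenRel

/-!
# Elementwise presentations at an object of a site

`FP M X s r`: the elements `s i` of `M(X)` generate `M` locally on objects over `X`, and the (finitely supported)
relations `r k` generate all relations locally.

* `presentation_of_fp`: then `M.over X` has a presentation;
* `fp_of_presentation`: if `M.over X` has a presentation and `Y` over `X` is quasi-compact (`QC`), then `FP M Y s r` for
  some `s`, `r`.
-/

set_option autoImplicit false
set_option linter.unusedSectionVars false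

universe w v₁ u₁

open CategoryTheory CategoryTheory.Limits Opposite

namespace K186.Pres

open K186.GenRel

variable {C : Type u₁} [Category.{v₁} C] {J : GrothendieckTopology C} {R : Sheaf J RingCat.{w}}

/-- Quasi-compact objects. -/
def QC (J : GrothendieckTopology C) (X : C) : Prop :=
  ∀ S : Sieve X, S ∈ J X → ∃ (n : ℕ) (V : Fin n → C) (f : ∀ i, V i ⟶ X), (∀ i, S (f i)) ∧ Sieve.ofArrows V f ∈ J X

theorem QC.over {X Y : C} (h : QC J Y) (f : Y ⟶ X) : QC (J.over X) (Over.mk f) := by
  intro S hS
  rw [GrothendieckTopology.mem_over_iff] at hS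
  obtain ⟨n, V, g, h1, h2⟩ := h _ hS
  refine ⟨n, fun i => Over.mk (g i ≫ f), fun i => Over.homMk (g i), fun i => ?_, ?_⟩
  · exact (Sieve.overEquiv_iff S (g i)).1 (h1 i)
  · rw [GrothendieckTopology.mem_over_iff, Sieve.overEquiv_ofArrows]
    exact h2

section RC

lemma rc_comp {I : Type w} {X Y Z : C} (g : Y ⟶ X) (h : Z ⟶ Y) (c : I →₀ R.obj.obj (op X)) :
    rc (R := R) h (rc g c) = rc (h ≫ g) c := by
  ext i
  rw [rc_apply, rc_apply, rc_apply, op_comp, Functor.map_comp]
  rfl

lemma rc_smul {I : Type w} {X Y : C} (g : Y ⟶ X) (a : R.obj.obj (op X)) (c : I →₀ R.obj.obj (op X)) :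
    rc (R := R) g (a • c) = (R.obj.map g.op).hom a • rc g c := by
  ext i
  exact map_mul (R.obj.map g.op).hom a (c i)

lemma rc_add {I : Type w} {X Y : C} (g : Y ⟶ X) (c d : I →₀ R.obj.obj (op X)) :
    rc (R := R) g (c + d) = rc g c + rc g d := by
  ext i
  exact map_add (R.obj.map g.op).hom (c i) (d i)

lemma rc_zero {I : Type w} {X Y : C} (g : Y ⟶ X) : rc (R := R) g (0 : I →₀ R.obj.obj (op X)) = 0 := by
  ext i
  exact map_zero (R.obj.map g.op).hom

lemma rc_id {I : Type w} {X : C} (c : I →₀ R.obj.obj (op X)) : rc (R := R) (𝟙 X) c = c := by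
  ext i
  rw [rc_apply, op_id, CategoryTheory.Functor.map_id]
  rfl

end RC

variable (M : SheafOfModules.{w} R)

/-- restriction of elements -/
noncomputable def rs {X Y : C} (f : Y ⟶ X) (m : M.val.obj (op X)) : M.val.obj (op Y) := M.val.restrictₛₗ f.op m

lemma rs_comp {X Y Z : C} (f : Y ⟶ X) (g : Z ⟶ Y) (m : M.val.obj (op X)) : rs M g (rs M f m) = rs M (g ≫ f) m :=
  (M.val.map_comp_apply f.op g.op m).symm

lemma rs_id {X : C} (m : M.val.obj (op X)) : rs M (𝟙 X) m = m := by
  have h := M.val.presheaf.map_id (op X)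
  exact congrArg (fun k : M.val.presheaf.obj (op X) ⟶ M.val.presheaf.obj (op X) => k m) h

lemma rs_smul {X Y : C} (f : Y ⟶ X) (a : R.obj.obj (op X)) (m : M.val.obj (op X)) :
    rs M f (a • m) = (R.obj.map f.op).hom a • rs M f m := map_smulₛₗ (M.val.restrictₛₗ f.op) a m

lemma rs_add {X Y : C} (f : Y ⟶ X) (m n : M.val.obj (op X)) : rs M f (m + n) = rs M f m + rs M f n :=
  map_add (M.val.restrictₛₗ f.op) m n

lemma rs_zero {X Y : C} (f : Y ⟶ X) : rs M f 0 = 0 := map_zero (M.val.restrictₛₗ f.op)

/-- Linear combinations of elements of `M(X)` restricted to `Y`, with coefficients over `Y`. -/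
noncomputable def lcE {I : Type w} {X Y : C} (f : Y ⟶ X) (s : I → M.val.obj (op X)) (c : I →₀ R.obj.obj (op Y)) :
    M.val.obj (op Y) :=
  Finsupp.linearCombination (R.obj.obj (op Y)) (fun i => rs M f (s i)) c

lemma rs_lc {I : Type w} {X Y : C} (f : Y ⟶ X) (s : I → M.val.obj (op X)) (c : I →₀ R.obj.obj (op X)) :
    rs M f (Finsupp.linearCombination (R.obj.obj (op X)) s c) = lcE M f s (rc (R := R) f c) := by
  unfold lcE
  rw [Finsupp.linearCombination_apply, Finsupp.linearCombination_apply]
  refine Eq.trans ?_ (Finsupp.sum_mapRange_index (g := c) (f := (R.obj.map f.op).hom) (hf := map_zero _)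
    (h := fun i a => a • rs M f (s i)) (fun j => zero_smul _ (rs M f (s j)))).symm
  rw [Finsupp.sum, Finsupp.sum]
  refine (map_sum (M.val.restrictₛₗ f.op) _ _).trans ?_
  exact Finset.sum_congr rfl fun j _ => (rs_smul M f (c j) (s j))

lemma lc_sum {I K : Type w} (s : I → M.sections) (X : C) (c : K → I →₀ R.obj.obj (op X))
    (d : K →₀ R.obj.obj (op X)) : lc s X (Finsupp.linearCombination (R.obj.obj (op X)) c d) =
      Finsupp.linearCombination (R.obj.obj (op X)) (fun k => lc s X (c k)) d := by
  rw [Finsupp.linearCombination_apply, Finsupp.linearCombination_apply, Finsupp.sum, Finsupp.sum]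
  refine (map_sum (Finsupp.linearCombination (R.obj.obj (op X)) (fun j => sec (s j) (op X))) _ _).trans
    (Finset.sum_congr rfl fun k _ => ?_)
  exact (Finsupp.linearCombination (R.obj.obj (op X)) (fun j => sec (s j) (op X))).map_smul (d k) (c k)

/-- The relations `r k` restricted to `Y`. -/
noncomputable def lcR {I K : Type w} {X Y : C} (f : Y ⟶ X) (r : K → I →₀ R.obj.obj (op X))
    (d : K →₀ R.obj.obj (op Y)) : I →₀ R.obj.obj (op Y) :=
  Finsupp.linearCombination (R.obj.obj (op Y)) (fun k => rc (R := R) f (r k)) d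

/-- Elementwise presentations. -/
structure FP (X : C) {I K : Type w} (s : I → M.val.obj (op X)) (r : K → I →₀ R.obj.obj (op X)) : Prop where
  rel : ∀ k, Finsupp.linearCombination (R.obj.obj (op X)) s (r k) = 0
  gen : ∀ {Y : C} (f : Y ⟶ X) (t : M.val.obj (op Y)), ∃ S : Sieve Y, S ∈ J Y ∧ ∀ ⦃Z : C⦄ (g : Z ⟶ Y), S.arrows g →
    ∃ c : I →₀ R.obj.obj (op Z), rs M g t = lcE M (g ≫ f) s c
  ker : ∀ {Y : C} (f : Y ⟶ X) (c : I →₀ R.obj.obj (op Y)), lcE M f s c = 0 → ∃ S : Sieve Y, S ∈ J Y ∧
    ∀ ⦃Z : C⦄ (g : Z ⟶ Y), S.arrows g → ∃ d : K →₀ R.obj.obj (op Z), rc (R := R) g c = lcR (g ≫ f) r d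

section Over

variable {M}

/-- The sections of a sheaf of modules on `C/X` attached to families of sections and coefficients over `X`. -/
noncomputable def osec {X : C} {N : SheafOfModules.{w} (R.over X)} {I : Type w} (e : I → N.sections)
    (c : I →₀ R.obj.obj (op X)) : N.sections :=
  ⟨fun Z => lc e Z.unop (show I →₀ (R.over X).obj.obj (op Z.unop) from rc (R := R) Z.unop.hom c), fun {Z Z'} g => by
    have h1 := lc_rc (R := R.over X) e g.unop
      (show I →₀ (R.over X).obj.obj (op Z.unop) from rc (R := R) Z.unop.hom c)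
    refine h1.symm.trans ?_
    congr 1
    change rc (R := R) g.unop.left (rc (R := R) Z.unop.hom c) = rc (R := R) Z'.unop.hom c
    rw [rc_comp, Over.w]⟩

variable (M) in
/-- The sections of `M.over X` attached to an element of `M(X)`. -/
noncomputable def esec {X : C} (m : M.val.obj (op X)) : (M.over X).sections :=
  ⟨fun Z => (rs M Z.unop.hom m : M.val.obj (op Z.unop.left)), fun {Z Z'} g => by
    change rs M g.unop.left (rs M Z.unop.hom m) = rs M Z'.unop.hom m
    rw [rs_comp, Over.w]⟩

end Over

section Main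

variable [∀ X, HasSheafify (J.over X) AddCommGrpCat.{w}] [∀ X, (J.over X).WEqualsLocallyBijective AddCommGrpCat.{w}]

variable {M}

theorem presentation_of_fp {X : C} {I K : Type w} {s : I → M.val.obj (op X)} {r : K → I →₀ R.obj.obj (op X)}
    (h : FP M X s r) : Nonempty (M.over X).Presentation := by
  let s' : I → (M.over X).sections := fun i => esec M (s i)
  let e : I → (SheafOfModules.free (R := R.over X) I).sections := fun i => SheafOfModules.freeSection i
  let q : K → (SheafOfModules.free (R := R.over X) I).sections := fun k => osec e (r k)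
  have hlc : ∀ (Z : Over X) (c : I →₀ (R.over X).obj.obj (op Z)), lc s' Z c = lcE M Z.hom s c := fun Z c => rfl
  have hlcr : ∀ (Z : Over X) (c : I →₀ R.obj.obj (op X)),
      lc s' Z (show I →₀ (R.over X).obj.obj (op Z) from rc (R := R) Z.hom c) =
      rs M Z.hom (Finsupp.linearCombination (R.obj.obj (op X)) s c) := by
    intro Z c
    rw [hlc]
    exact (rs_lc M Z.hom s c).symm
  refine presentation_of_gen_rel s' q ?_ ⟨?_, ?_⟩
  · intro Z t
    obtain ⟨S, hS, hc⟩ := h.gen Z.hom (show M.val.obj (op Z.left) from t)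
    refine ⟨(Sieve.overEquiv Z).symm S, J.overEquiv_symm_mem_over Z S hS, fun Z' g hg => ?_⟩
    rw [Sieve.overEquiv_symm_iff] at hg
    obtain ⟨c, hc⟩ := hc g.left hg
    rw [Over.w g] at hc
    exact ⟨c, hc⟩
  · intro k Z
    have h1 := map_lc_free s' Z.unop (show I →₀ (R.over X).obj.obj (op Z.unop) from rc (R := R) Z.unop.hom (r k))
    refine h1.trans ?_
    rw [hlcr, h.rel]
    exact rs_zero M _
  · intro Z c hc
    obtain ⟨S, hS, hd⟩ := h.ker Z.hom c hc
    refine ⟨(Sieve.overEquiv Z).symm S, J.overEquiv_symm_mem_over Z S hS, fun Z' g hg => ?_⟩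
    rw [Sieve.overEquiv_symm_iff] at hg
    obtain ⟨d, hd⟩ := hd g.left hg
    rw [Over.w g] at hd
    have h3 := lc_sum (R := R.over X) (M := SheafOfModules.free (R := R.over X) I) e Z'
      (fun k => (show I →₀ (R.over X).obj.obj (op Z') from rc (R := R) (X := X) (Y := Z'.left) Z'.hom (r k)))
      (show K →₀ (R.over X).obj.obj (op Z') from d)
    refine ⟨d, Eq.trans ?_ h3⟩
    exact congrArg (fun a : I →₀ (R.over X).obj.obj (op Z') => lc e Z' a) hd

end Main

section Fin

variable [HasSheafify J AddCommGrpCat.{w}] [J.WEqualsLocallyBijective AddCommGrpCat.{w}]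
  [J.HasSheafCompose (forget₂ RingCat.{w} AddCommGrpCat.{w})]

omit [HasSheafify J AddCommGrpCat.{w}] [J.WEqualsLocallyBijective AddCommGrpCat.{w}] in
theorem ring_sep {X : C} {n : ℕ} {V : Fin n → C} (f : ∀ i, V i ⟶ X) (hV : Sieve.ofArrows V f ∈ J X)
    (a : R.obj.obj (op X)) (h : ∀ i, R.obj.map (f i).op a = 0) : a = 0 := by
  have hM := isSheaf_type (SheafOfModules.unit R).isSheaf
  refine (hM.isSeparated _ hV).ext (t₁ := (show (SheafOfModules.unit R).val.obj (op X) from a))
    (t₂ := (show (SheafOfModules.unit R).val.obj (op X) from 0)) ?_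
  rintro W g ⟨Z, b, c, ⟨i⟩, rfl⟩
  change R.obj.map (b ≫ f i).op a = R.obj.map (b ≫ f i).op 0
  rw [op_comp, Functor.map_comp]
  have h1 : R.obj.map b.op (R.obj.map (f i).op a) = R.obj.map b.op (R.obj.map (f i).op 0) := by
    rw [h i, map_zero (R.obj.map (f i).op).hom]
  exact h1

open Classical in
/-- Sections of a free module over a quasi-compact object have finitely many coordinates. -/
theorem exists_lc {I : Type w} {X : C} (hX : QC J X) (t : (SheafOfModules.free (R := R) I).val.obj (op X)) :
    ∃ c : I →₀ R.obj.obj (op X), t = lc (fun j : I => SheafOfModules.freeSection (R := R) j) X c := by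
  obtain ⟨S, hS, h⟩ := gen_free (R := R) I X t
  obtain ⟨n, V, f, hf, hV⟩ := hX S hS
  choose c hc using fun i => h (f i) (hf i)
  have hF : ∀ i : I, co t i ≠ 0 → i ∈ Finset.univ.biUnion (fun j => (c j).support) := by
    intro i hi
    by_contra hcon
    apply hi
    refine ring_sep f hV _ fun j => ?_
    have h1 : c j i = 0 := by
      by_contra h2
      exact hcon (Finset.mem_biUnion.2 ⟨j, Finset.mem_univ _, Finsupp.mem_support_iff.2 h2⟩)
    rw [← co_map, hc, co_lc, h1]
  refine ⟨Finsupp.onFinset _ (fun i => co t i) hF, ?_⟩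
  refine ext_co _ _ fun i => ?_
  rw [co_lc]
  rfl

end Fin

section Main2

variable [∀ X, HasSheafify (J.over X) AddCommGrpCat.{w}] [∀ X, (J.over X).WEqualsLocallyBijective AddCommGrpCat.{w}]
  [∀ X, (J.over X).HasSheafCompose (forget₂ RingCat.{w} AddCommGrpCat.{w})]

variable {M}

open Classical in
theorem fp_of_presentation {X : C} (P : (M.over X).Presentation) {Y : C} (f : Y ⟶ X) (hY : QC J Y) :
    ∃ (I K : Type w) (s : I → M.val.obj (op Y)) (r : K → I →₀ R.obj.obj (op Y)), FP M Y s r := by
  obtain ⟨q, hq1, hq2⟩ := exists_rel P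
  have hgen : Gen P.generators.s := (epi_iff_gen _).1 P.generators.epi
  have hQ : QC (J.over X) (Over.mk f) := hY.over f
  let e : P.generators.I → (SheafOfModules.free (R := R.over X) P.generators.I).sections :=
    fun i => SheafOfModules.freeSection i
  choose r hr using fun k => exists_lc (R := R.over X) hQ (sec (q k) (op (Over.mk f)))
  let s : P.generators.I → M.val.obj (op Y) := fun i => sec (P.generators.s i) (op (Over.mk f))
  have hs : ∀ (Z : Over X) (g : Z ⟶ Over.mk f) (i), sec (P.generators.s i) (op Z) = rs M g.left (s i) :=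
    fun Z g i => (sec_map (P.generators.s i) g.op).symm
  refine ⟨P.generators.I, P.relations.I, s, r, ?_, ?_, ?_⟩
  · intro k
    have h1 := hq1 k (op (Over.mk f))
    rw [hr k] at h1
    exact (map_lc_free P.generators.s (Over.mk f) (r k)).symm.trans h1
  · intro Y' g t
    obtain ⟨S, hS, h⟩ := hgen (Over.mk (g ≫ f)) t
    refine ⟨Sieve.overEquiv _ S, hS, fun Z k hk => ?_⟩
    rw [Sieve.overEquiv_iff] at hk
    obtain ⟨c, hc⟩ := h _ hk
    refine ⟨c, hc.trans ?_⟩
    unfold lcE
    have h3 : (fun i => sec (P.generators.s i) (op (Over.mk (k ≫ (Over.mk (g ≫ f)).hom)))) =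
        fun i => rs M (k ≫ g) (s i) := by
      funext i
      exact hs (Over.mk (k ≫ (Over.mk (g ≫ f)).hom)) (Over.homMk (k ≫ g) (by simp)) i
    exact congrArg (fun a : P.generators.I → M.val.obj (op Z) =>
      Finsupp.linearCombination (R.obj.obj (op Z)) a c) h3
  · intro Y' g c hc
    have hg : Over.mk (g ≫ f) ⟶ Over.mk f := Over.homMk g
    have h3 : (fun i => sec (P.generators.s i) (op (Over.mk (g ≫ f)))) = fun i => rs M g (s i) := by
      funext i
      exact hs (Over.mk (g ≫ f)) (Over.homMk g (by simp)) i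
    have h4 : lc (R := R.over X) P.generators.s (Over.mk (g ≫ f)) c = 0 := by
      refine Eq.trans ?_ hc
      exact congrArg (fun a : P.generators.I → M.val.obj (op Y') =>
        Finsupp.linearCombination (R.obj.obj (op Y')) a c) h3
    obtain ⟨S, hS, h⟩ := hq2 (Over.mk (g ≫ f)) c h4
    refine ⟨Sieve.overEquiv _ S, hS, fun Z k hk => ?_⟩
    rw [Sieve.overEquiv_iff] at hk
    obtain ⟨d, hd⟩ := h _ hk
    refine ⟨d, ?_⟩
    let Z' : Over X := Over.mk (k ≫ (Over.mk (g ≫ f)).hom)
    let l : Z' ⟶ Over.mk f := Over.homMk (k ≫ g) (by simp [Z'])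
    have h5 : ∀ k' : P.relations.I, sec (q k') (op Z') = lc e Z' (rc (R := R.over X) l (r k')) := by
      intro k'
      rw [lc_rc, ← hr k']
      exact (sec_map (q k') l.op).symm
    have h6 : lc q Z' d = lc e Z' (Finsupp.linearCombination ((R.over X).obj.obj (op Z'))
        (fun k' => rc (R := R.over X) l (r k')) d) := by
      rw [lc_sum]
      exact congrArg (fun a => Finsupp.linearCombination ((R.over X).obj.obj (op Z')) a d) (funext h5)
    have h7 := hd.trans h6
    ext i
    have h8 := congrArg (fun t => co t i) h7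
    simp only [e, co_lc] at h8
    exact h8

end Main2

end K186.Pres
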